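import Cfsg.Agent.H77.TwoSymFourPerfect
import Cfsg.Agent.H36.SymSix
import Cfsg.Agent.H89.AutAltThree
import Cfsg.Agent.H31.SylowBasic
import Cfsg.Agent.S0497
import Cfsg.Agent.S1003

/-!
# The two possible orders
-/

set_option autoImplicit false

namespace Cfsg.Agent.H77.TwoSymFour

open Equiv Subgroup

theorem cent_three : ∀ π : Perm (Fin 4), π ^ 3 = 1 → π ≠ 1 → ∀ σ : Perm (Fin 4), σ * σ = 1 →
    σ * π = π * σ → σ = 1 := by decide +kernel

theorem h0_ne : ∃ π : Perm (Fin 4), π ^ 3 = 1 ∧ π ≠ 1 := by decide +kernel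

namespace Conf

variable {G : Type*} [Group G] (d : Conf G)

theorem card_centralizer_t : Nat.card ↥(centralizer ({d.toData.t} : Set G)) = 48 := by
  have h : d.E.range = centralizer ({d.toData.t} : Set G) := by
    ext g
    rw [mem_centralizer_singleton_iff]
    constructor
    · rintro ⟨x, rfl⟩
      show d.E x * d.E (u0, 1) = d.E (u0, 1) * d.E x
      rw [← map_mul, ← map_mul]
      exact congrArg d.E (Prod.ext (mul_comm _ _) (by simp))
    · exact fun h => d.cent g h
  rw [← h, ← Nat.card_congr (MonoidHom.ofInjective d.inj).toEquiv, Nat.card_prod, Nat.card_perm]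
  simp
  decide

theorem card_group [Finite G] : Nat.card G = 2 * Nat.card d.φ.ker := by
  rw [← d.φ.ker.card_mul_index, d.index_two, mul_comm]

theorem not_168 [Finite G] (hns : ¬ Group.IsSolvable G) : Nat.card d.φ.ker ≠ 168 := by
  intro h168
  haveI : Fact (Nat.Prime 7) := ⟨by norm_num⟩
  haveI : Fact (Nat.Prime 3) := ⟨by norm_num⟩
  haveI : Fact (Nat.Prime 2) := ⟨Nat.prime_two⟩
  haveI := d.simple hns (Or.inl h168)
  set t := d.toData.t with htdef
  set C := centralizer ({t} : Set G) with hCdef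
  have hG : Nat.card G = 336 := by rw [d.card_group, h168]
  have hC : Nat.card C = 48 := d.card_centralizer_t
  let P : Sylow 7 G := default
  have hP : Nat.card (P : Subgroup G) = 7 := by
    rw [P.card_eq_multiplicity, hG]
    have : (336).factorization 7 = 1 := by
      rw [show (336 : ℕ) = 48 * 7 by norm_num, Nat.factorization_mul (by norm_num) (by norm_num),
        Finsupp.add_apply, Nat.Prime.factorization_self (by norm_num),
        Nat.factorization_eq_zero_of_not_dvd (by norm_num)]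
    rw [this, pow_one]
  have hPK : (P : Subgroup G) ≤ d.φ.ker := by
    intro p hp
    rw [MonoidHom.mem_ker]
    rcases Int.units_eq_one_or (d.φ p) with h | h
    · exact h
    · have h7 : (⟨p, hp⟩ : (P : Subgroup G)) ^ 7 = 1 := orderOf_dvd_iff_pow_eq_one.1 ((_root_.orderOf_dvd_natCard _).trans hP.dvd)
      have := congrArg d.φ (congrArg Subtype.val h7)
      simp only [SubmonoidClass.coe_pow, Subgroup.coe_one, map_pow, map_one, h] at this
      exact absurd this (by decide)
  set Q := P.subtype hPK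
  have h8 : Nat.card (Sylow 7 d.φ.ker) = 8 := (S1003.result h168).2.2
  have hn8 : (normalizer ((P : Subgroup G) : Set G)).index = 8 := by
    exact P.card_eq_index_normalizer.symm.trans ((H31.card_sylow_normal_subgroup P hPK).symm.trans h8)
  set N := normalizer ((P : Subgroup G) : Set G)
  have hN : Nat.card N = 42 := by
    have := N.card_mul_index
    rw [hn8, hG] at this; omega
  set NQ := normalizer ((Q : Subgroup d.φ.ker) : Set d.φ.ker)
  have hNQ : Nat.card NQ = 21 := by
    have := NQ.card_mul_index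
    rw [show NQ.index = 8 from Q.card_eq_index_normalizer.symm.trans h8, h168] at this; omega
  have hmemNQ : ∀ k : d.φ.ker, (k : G) ∈ N → k ∈ NQ := by
    intro k hk
    rw [mem_normalizer_iff]
    intro x
    show (x : G) ∈ (P : Subgroup G) ↔ ((k * x * k⁻¹ : d.φ.ker) : G) ∈ (P : Subgroup G)
    exact mem_normalizer_iff.1 hk x
  -- a subgroup of order six in the intersection of the normalisers
  set B := N ⊓ C with hBdef
  have hB6 : Nat.card B = 6 := by
    have h1 : Nat.card B ∣ 42 := hN ▸ card_dvd_of_le inf_le_left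
    have h2 : Nat.card B ∣ 48 := hC ▸ card_dvd_of_le inf_le_right
    have h3 : Nat.card B ∣ 6 := Nat.dvd_gcd h1 h2
    have h4 : B.index ≤ N.index * C.index := index_inf_le
    have hCi : C.index = 7 := by
      have := C.card_mul_index
      rw [hC, hG] at this; omega
    rw [hn8, hCi] at h4
    have h5 := B.card_mul_index
    rw [hG] at h5
    have h6 := Nat.mul_le_mul_left (Nat.card B) h4
    have := Nat.le_of_dvd (by norm_num) h3
    omega
  have hsE : ∀ g ∈ B, ∃ z σ, d.E (z, σ) = g := fun g hg => by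
    obtain ⟨⟨z, σ⟩, h⟩ := d.cent g (mem_centralizer_singleton_iff.1 hg.2)
    exact ⟨z, σ, h⟩
  obtain ⟨⟨s, hsB⟩, hs⟩ := exists_prime_orderOf_dvd_card' (G := B) 2 (by rw [hB6]; norm_num)
  obtain ⟨⟨y, hyB⟩, hy⟩ := exists_prime_orderOf_dvd_card' (G := B) 3 (by rw [hB6]; norm_num)
  rw [← Subgroup.orderOf_coe] at hs hy
  dsimp only at hs hy
  obtain ⟨z, σ, rfl⟩ := hsE s hsB
  obtain ⟨z', π, rfl⟩ := hsE y hyB
  have hz' : z' = 1 := d.fst_eq_one (σ := π) (by
    rcases Int.units_eq_one_or (d.φ (d.E (z', π))) with h | h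
    · exact h
    · have := congrArg d.φ (pow_orderOf_eq_one (d.E (z', π)))
      rw [hy, map_pow, map_one, h] at this
      exact absurd this (by decide))
  subst hz'
  have hz : z = u0 := (z2_cases z).resolve_left fun hz1 => by
    subst hz1
    have hmem := hmemNQ ⟨_, MonoidHom.mem_ker.2 (d.φ_E σ)⟩ hsB.1
    have := orderOf_dvd_natCard (G := NQ) ⟨_, hmem⟩
    rw [hNQ, Subgroup.orderOf_mk, Subgroup.orderOf_mk, hs] at this
    norm_num at this
  subst hz
  have hσ2 : σ * σ = 1 := by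
    have h := pow_orderOf_eq_one (d.E (u0, σ))
    rw [hs, ← map_pow, ← map_one d.E] at h
    simpa [sq] using congrArg Prod.snd (d.inj h)
  have hπ3 : π ^ 3 = 1 := by
    have h := pow_orderOf_eq_one (d.E (1, π))
    rw [hy, ← map_pow, ← map_one d.E] at h
    simpa using congrArg Prod.snd (d.inj h)
  have hπ1 : π ≠ 1 := fun h => by
    rw [h, show ((1, 1) : Z2 × Perm (Fin 4)) = 1 from rfl, map_one, orderOf_one] at hy
    omega
  haveI : IsCyclic (P : Subgroup G) := isCyclic_of_prime_card hP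
  obtain ⟨p₀, hp₀⟩ := IsCyclic.exists_generator (α := (P : Subgroup G))
  by_cases hcomm : σ * π = π * σ
  · -- `t` normalises, so inverts, `P`
    have htN : t ∈ N := by
      have := hsB.1
      rw [cent_three π hπ3 hπ1 σ hσ2 hcomm] at this
      exact this
    have htt : t * t = 1 := by rw [← sq, ← d.toData.order_t, pow_orderOf_eq_one]
    have hfix : ∀ x ∈ (P : Subgroup G), x * t = t * x → x = 1 := by
      intro x hx hxt
      have h1 : orderOf x ∣ 7 := hP ▸ Subgroup.orderOf_dvd_natCard _ hx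
      have h2 : orderOf x ∣ 48 := hC ▸ Subgroup.orderOf_dvd_natCard _ (mem_centralizer_singleton_iff.2 hxt)
      have := Nat.dvd_gcd h1 h2
      exact orderOf_eq_one_iff.1 (Nat.dvd_one.1 this)
    have hinv := Data.inverted (P : Subgroup G) (by rw [hP]; decide) t htt
      (fun x hx => (mem_normalizer_iff.1 htN x).1 hx) hfix
    have hcompl : IsComplement' (P : Subgroup G) C := isComplement'_of_coprime
      (by rw [hP, hC, hG]) (by rw [hP, hC]; norm_num)
    have hall : ∀ g : G, ∃ q ∈ (P : Subgroup G), g * t * g⁻¹ = q * t := by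
      intro g
      obtain ⟨⟨⟨p, hp⟩, ⟨k, hk⟩⟩, hpk⟩ := hcompl.2 g
      dsimp only at hpk
      refine ⟨p * p, mul_mem hp hp, ?_⟩
      have hkt := mem_centralizer_singleton_iff.1 hk
      rw [← hpk, show p * k * t * (p * k)⁻¹ = p * (k * t * k⁻¹) * p⁻¹ by group, hkt,
        mul_inv_cancel_right, mul_assoc, mul_assoc, ← hinv p hp]
      congr 1
      rw [← mul_assoc, ← mul_assoc]
      calc t * t * p * t⁻¹ = p * t⁻¹ := by rw [htt, one_mul]
        _ = p * t := by rw [inv_eq_of_mul_eq_one_right htt]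
    have hPn : (P : Subgroup G).Normal := ⟨fun x hx g => by
      have hx7 : x ^ 7 = 1 := orderOf_dvd_iff_pow_eq_one.1 (hP ▸ Subgroup.orderOf_dvd_natCard _ hx)
      have e : x = (x ^ 4 * t * (x ^ 4)⁻¹) * t⁻¹ := by
        rw [← hinv _ (pow_mem hx 4), show x ^ 4 * t * (t * x ^ 4 * t⁻¹) * t⁻¹ =
          x ^ 4 * (t * t) * x ^ 4 * (t * t)⁻¹ by group, htt, inv_one, mul_one, mul_one, ← pow_add,
          pow_succ, hx7, one_mul]
      obtain ⟨q1, hq1, e1⟩ := hall (g * x ^ 4)
      obtain ⟨q2, hq2, e2⟩ := hall g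
      rw [e, show g * (x ^ 4 * t * (x ^ 4)⁻¹ * t⁻¹) * g⁻¹ =
        (g * x ^ 4 * t * (g * x ^ 4)⁻¹) * (g * t * g⁻¹)⁻¹ by group, e1, e2,
        show q1 * t * (q2 * t)⁻¹ = q1 * q2⁻¹ by group]
      exact mul_mem hq1 (inv_mem hq2)⟩
    have hQn : (Q : Subgroup d.φ.ker).Normal := ⟨fun x hx k => hPn.conj_mem (x : G) hx (k : G)⟩
    have : NQ = ⊤ := normalizer_eq_top_iff.2 hQn
    rw [this, Subgroup.card_top, h168] at hNQ
    omega
  · -- otherwise the Sylow subgroup of the kernel is central in its normaliser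
    have hw : d.E (u0, σ) * d.E (1, π) * (d.E (u0, σ))⁻¹ * (d.E (1, π))⁻¹ =
        d.E (1, σ * π * σ⁻¹ * π⁻¹) := by
      rw [← map_inv, ← map_inv, ← map_mul, ← map_mul, ← map_mul]
      exact congrArg d.E (Prod.ext (by simp) rfl)
    set w := σ * π * σ⁻¹ * π⁻¹
    have hw1 : w ≠ 1 := fun h => hcomm (by
      rw [show σ * π = w * (π * σ) by simp [w, mul_assoc], h, one_mul])
    have hwN : d.E (1, w) ∈ N := hw ▸ mul_mem (mul_mem (mul_mem hsB.1 hyB.1) (inv_mem hsB.1)) (inv_mem hyB.1)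
    have hwC : d.E (1, w) ∈ B := hw ▸ mul_mem (mul_mem (mul_mem hsB hyB) (inv_mem hsB)) (inv_mem hyB)
    have hcentP : ∀ x ∈ (P : Subgroup G), d.E (1, w) * x = x * d.E (1, w) := by
      have hex : ∀ a ∈ N, ∃ i : ℤ, ∀ x ∈ (P : Subgroup G), a * x * a⁻¹ = x ^ i := by
        intro a ha
        have hm := (mem_normalizer_iff.1 ha (p₀ : G)).1 p₀.2
        obtain ⟨i, hi⟩ := mem_zpowers_iff.1 (hp₀ ⟨_, hm⟩)
        refine ⟨i, fun x hx => ?_⟩
        obtain ⟨j, hj⟩ := mem_zpowers_iff.1 (hp₀ ⟨x, hx⟩)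
        have hi' : (p₀ : G) ^ i = a * p₀ * a⁻¹ := congrArg Subtype.val hi
        have hj' : (p₀ : G) ^ j = x := congrArg Subtype.val hj
        rw [← hj', ← conj_zpow, ← hi', ← zpow_mul, ← zpow_mul, mul_comm]
      intro x hx
      obtain ⟨i, hi⟩ := hex _ hsB.1
      obtain ⟨j, hj⟩ := hex _ hyB.1
      have key : ∀ x ∈ (P : Subgroup G), d.E (u0, σ) * (d.E (1, π) * x * (d.E (1, π))⁻¹) * (d.E (u0, σ))⁻¹ =
          d.E (1, π) * (d.E (u0, σ) * x * (d.E (u0, σ))⁻¹) * (d.E (1, π))⁻¹ := fun x hx => by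
        rw [hj x hx, hi _ (zpow_mem hx j), hi x hx, hj _ (zpow_mem hx i), ← zpow_mul, ← zpow_mul,
          mul_comm]
      rw [← hw]
      set a := d.E (u0, σ)
      set b := d.E (1, π)
      have h := key (a⁻¹ * (b⁻¹ * x * b) * a) (by
        have h1 := (mem_normalizer_iff''.mp hyB.1 x).1 hx
        exact (mem_normalizer_iff''.mp hsB.1 _).1 h1)
      have h' : a * b * a⁻¹ * b⁻¹ * x * (b * a * b⁻¹ * a⁻¹) = x := by
        calc _ = a * (b * (a⁻¹ * (b⁻¹ * x * b) * a) * b⁻¹) * a⁻¹ := by group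
          _ = b * (a * (a⁻¹ * (b⁻¹ * x * b) * a) * a⁻¹) * b⁻¹ := h
          _ = x := by group
      calc a * b * a⁻¹ * b⁻¹ * x
          = a * b * a⁻¹ * b⁻¹ * x * (b * a * b⁻¹ * a⁻¹) * (a * b * a⁻¹ * b⁻¹) := by group
        _ = x * (a * b * a⁻¹ * b⁻¹) := by rw [h']
    let w' : d.φ.ker := ⟨d.E (1, w), MonoidHom.mem_ker.2 (d.φ_E w)⟩
    have hw'N : w' ∈ NQ := hmemNQ w' hwN
    have hord : orderOf w' = 3 := by
      have h1 : orderOf w' ∣ 21 := hNQ ▸ Subgroup.orderOf_dvd_natCard _ hw'N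
      have h2 : orderOf w' ∣ 6 := by
        rw [← Subgroup.orderOf_coe, ← hB6]; exact Subgroup.orderOf_dvd_natCard _ hwC
      have h3 := Nat.dvd_gcd h1 h2
      rcases (Nat.dvd_prime Nat.prime_three).1 (show orderOf w' ∣ 3 from h3) with h | h
      · exfalso
        rw [orderOf_eq_one_iff] at h
        have := congrArg Subtype.val h
        exact hw1 (congrArg Prod.snd (d.inj (this.trans (map_one d.E).symm)))
      · exact h
    set Z := centralizer ((Q : Subgroup d.φ.ker) : Set d.φ.ker)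
    have hQc : Nat.card (Q : Subgroup d.φ.ker) = 7 :=
      (Nat.card_congr (subgroupOfEquivOfLe hPK).toEquiv).trans hP
    haveI : IsCyclic (Q : Subgroup d.φ.ker) := isCyclic_of_prime_card hQc
    let : CommGroup (Q : Subgroup d.φ.ker) := IsCyclic.commGroup
    have hQZ : (Q : Subgroup d.φ.ker) ≤ Z := fun a ha => mem_centralizer_iff.2 fun b hb =>
      congrArg Subtype.val (mul_comm (⟨b, hb⟩ : (Q : Subgroup d.φ.ker)) ⟨a, ha⟩)
    have hwZ : w' ∈ Z := mem_centralizer_iff.2 fun b hb => Subtype.ext (hcentP (b : G) hb).symm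
    have hZN : Z ≤ NQ := fun a ha => centralizer_le_normalizer _ ha
    have h21 : NQ ≤ Z := by
      refine (Subgroup.eq_of_le_of_card_ge hZN ?_).ge
      rw [hNQ]
      refine Nat.le_of_dvd Nat.card_pos (Nat.Coprime.mul_dvd_of_dvd_of_dvd (m := 7) (n := 3)
        (by norm_num) (hQc ▸ card_dvd_of_le hQZ) (hord ▸ Subgroup.orderOf_dvd_natCard _ hwZ))
    have hc := MonoidHom.ker_transferSylow_isComplement' Q h21
    have hker := hc.card_mul_card
    rw [hQc, h168] at hker
    rcases (MonoidHom.transferSylow Q h21).normal_ker.eq_bot_or_eq_top with h | h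
    · rw [h, Subgroup.card_bot] at hker; omega
    · rw [h, Subgroup.card_top, h168] at hker; omega

end Conf

theorem outer_double {φ : MulAut (Perm (Fin 6))}
    (hφ : ∀ x : Perm (Fin 6), x.IsThreeCycle → ¬ (φ x).IsThreeCycle) {x : Perm (Fin 6)}
    (hx : orderOf x = 3) (hx3 : ¬ x.IsThreeCycle) : (φ x).IsThreeCycle := by
  by_contra h
  obtain ⟨c, hc⟩ : ∃ c : Perm (Fin 6), c.IsThreeCycle :=
    ⟨swap 0 1 * swap 0 2, Equiv.Perm.isThreeCycle_swap_mul_swap_same (by decide) (by decide) (by decide)⟩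
  have h1 := H36.SymSix.cycleType_of_order_three (x := φ x) (by rw [MulEquiv.orderOf_eq]; exact hx) h
  have h2 := H36.SymSix.cycleType_of_order_three (x := φ c)
    (by rw [MulEquiv.orderOf_eq]; exact hc.orderOf) (hφ c hc)
  obtain ⟨k, hk⟩ := isConj_iff.1 (Perm.isConj_iff_cycleType_eq.2 (h2.trans h1.symm))
  obtain ⟨l, rfl⟩ := φ.surjective k
  rw [← map_inv, ← map_mul, ← map_mul, φ.apply_eq_iff_eq] at hk
  apply hx3
  rw [← hk, Perm.IsThreeCycle, Perm.cycleType_conj]
  exact hc

theorem sign_aut (φ : MulAut (Perm (Fin 6))) (x : Perm (Fin 6)) : Perm.sign (φ x) = Perm.sign x := by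
  have h : Perm.sign.comp φ.toMonoidHom = Perm.sign := Perm.eq_sign_of_surjective_hom
    ((Perm.sign_surjective (Fin 6)).comp φ.surjective)
  exact DFunLike.congr_fun h x

/-- An automorphism of the symmetric group restricted to the alternating group. -/
def restrictAlt (φ : MulAut (Perm (Fin 6))) : MulAut (alternatingGroup (Fin 6)) where
  toFun x := ⟨φ x, Perm.mem_alternatingGroup.2 ((sign_aut φ x).trans (Perm.mem_alternatingGroup.1 x.2))⟩
  invFun x := ⟨φ.symm x, Perm.mem_alternatingGroup.2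
    ((sign_aut φ.symm x).trans (Perm.mem_alternatingGroup.1 x.2))⟩
  left_inv x := Subtype.ext (φ.symm_apply_apply _)
  right_inv x := Subtype.ext (φ.apply_symm_apply _)
  map_mul' a b := Subtype.ext (map_mul φ _ _)

namespace Conf

variable {G : Type*} [Group G] (d : Conf G)

include d in
theorem equiv_sym_six [Finite G] (hns : ¬ Group.IsSolvable G) : Nonempty (G ≃* Perm (Fin 6)) := by
  have h360 : Nat.card d.φ.ker = 360 := (d.card_ker hns).resolve_left (d.not_168 hns)
  haveI := d.simple hns (Or.inr h360)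
  obtain ⟨ψ0⟩ := S0497.result h360
  obtain ⟨π, hπ, hπ1⟩ := h0_ne
  have hx3 : orderOf (d.E1 π) = 3 := by
    haveI : Fact (Nat.Prime 3) := ⟨by norm_num⟩
    rw [orderOf_injective d.E1 d.E1_inj]
    exact orderOf_eq_prime hπ hπ1
  obtain ⟨ψ, hψ⟩ : ∃ ψ : d.φ.ker ≃* alternatingGroup (Fin 6),
      ((ψ (d.E1 π) : alternatingGroup (Fin 6)) : Perm (Fin 6)).IsThreeCycle := by
    by_cases h : ((ψ0 (d.E1 π) : alternatingGroup (Fin 6)) : Perm (Fin 6)).IsThreeCycle
    · exact ⟨ψ0, h⟩
    · obtain ⟨φo, -, -, hφo⟩ := H36.SymSix.exists_outer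
      refine ⟨ψ0.trans (restrictAlt φo), outer_double hφo ?_ h⟩
      rw [Subgroup.orderOf_coe]
      exact (MulEquiv.orderOf_eq ψ0 _).trans hx3
  let β : MulAut (alternatingGroup (Fin 6)) :=
    MulAut.congr ψ (MulAut.conjNormal d.toData.t)
  have hβfix : β (ψ (d.E1 π)) = ψ (d.E1 π) := by
    show ψ (MulAut.conjNormal d.toData.t (ψ.symm (ψ (d.E1 π)))) = _
    rw [ψ.symm_apply_apply]
    refine congrArg ψ (Subtype.ext ?_)
    show d.E (u0, 1) * d.E (1, π) * (d.E (u0, 1))⁻¹ = d.E (1, π)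
    rw [← map_inv, ← map_mul, ← map_mul]
    exact congrArg d.E (Prod.ext (by simp) (by simp))
  obtain ⟨σ, hσ⟩ := H89.exists_conjNormal_eq (n := 6) (by norm_num) β fun y hy => by
    obtain ⟨k, hk⟩ := isConj_iff.1 (alternatingGroup.isThreeCycle_isConj
      (by rw [Nat.card_fin]; norm_num) hψ hy)
    rw [← hk, map_mul, map_mul, hβfix, map_inv]
    show ((β k : Perm (Fin 6)) * _ * ((β k : alternatingGroup (Fin 6)) : Perm (Fin 6))⁻¹).cycleType = _
    rw [Perm.cycleType_conj]
    exact hψ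
  let ρ : G →* MulAut (alternatingGroup (Fin 6)) := (MulAut.congr ψ).toMonoidHom.comp MulAut.conjNormal
  let ι : Perm (Fin 6) →* MulAut (alternatingGroup (Fin 6)) := MulAut.conjNormal
  have hιk : ∀ k : d.φ.ker, ρ (k : G) = ι (ψ k : Perm (Fin 6)) := by
    intro k
    apply MulEquiv.ext
    intro a
    show ψ (MulAut.conjNormal (k : G) (ψ.symm a)) = MulAut.conjNormal ((ψ k : Perm (Fin 6))) a
    obtain ⟨b, rfl⟩ := ψ.surjective a
    rw [ψ.symm_apply_apply, show MulAut.conjNormal (k : G) b = k * b * k⁻¹ from Subtype.ext rfl,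
      map_mul, map_mul, map_inv]
    exact Subtype.ext rfl
  have hrange : ∀ g, ρ g ∈ ι.range := by
    intro g
    rcases Int.units_eq_one_or (d.φ g) with hg | hg
    · exact ⟨_, (hιk ⟨g, MonoidHom.mem_ker.2 hg⟩).symm⟩
    · have hgt : g * d.toData.t⁻¹ ∈ d.φ.ker := by
        rw [MonoidHom.mem_ker, map_mul, map_inv, hg, Data.t, d.φ_t]; decide
      rw [show g = g * d.toData.t⁻¹ * d.toData.t by group, map_mul]
      exact mul_mem ⟨_, (hιk ⟨_, hgt⟩).symm⟩ ⟨σ, hσ⟩
  have hι : Function.Injective ι := H62.conjNormal_injective (by norm_num)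
  have hρ : Function.Injective ρ := by
    refine (MulAut.congr ψ).injective.comp ?_
    rw [← MonoidHom.ker_eq_bot_iff]
    refine d.toData.no_solvable_normal hns _ ?_
    have : IsPGroup 2 (MulAut.conjNormal : G →* MulAut d.φ.ker).ker := fun g =>
      ⟨2, Subtype.ext (by
        refine (SubmonoidClass.coe_pow g _).trans ?_
        simpa using d.toData.pow_four_of_comm (g := (g : G)) (by
          have h := congrArg (fun f : MulAut d.φ.ker => ((f (d.E1 c0) : d.φ.ker) : G))
            (MonoidHom.mem_ker.1 g.2)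
          simp only [MulAut.conjNormal_apply, MulAut.one_apply] at h
          exact mul_inv_eq_iff_eq_mul.1 h))⟩
    haveI := this.isNilpotent
    infer_instance
  let Φ : G →* Perm (Fin 6) :=
    (MonoidHom.ofInjective hι).symm.toMonoidHom.comp (ρ.codRestrict ι.range hrange)
  have hΦ : Function.Injective Φ := (MonoidHom.ofInjective hι).symm.injective.comp
    fun a b h => hρ (congrArg Subtype.val h)
  exact ⟨MulEquiv.ofBijective Φ ((Nat.bijective_iff_injective_and_card Φ).2 ⟨hΦ, by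
    rw [d.card_group, h360, Nat.card_perm, Nat.card_fin]; decide⟩)⟩

end Conf

end Cfsg.Agent.H77.TwoSymFour
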