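import Mathlib.GroupTheory.Transfer

set_option autoImplicit false

namespace Cfsg.Agent.H77

open Subgroup MulAction Function

/-- The sign character of an index two subgroup. -/
noncomputable def indexTwoHom {G : Type*} [Group G] (M : Subgroup G) (h : M.index = 2) : G →* ℤˣ :=
  open scoped Classical in
  MonoidHom.mk' (fun g => if g ∈ M then 1 else -1) fun a b => by
    by_cases ha : a ∈ M <;> by_cases hb : b ∈ M <;> simp [mul_mem_iff_of_index_two h, ha, hb]

theorem indexTwoHom_of_mem {G : Type*} [Group G] (M : Subgroup G) (h : M.index = 2) {g : G}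
    (hg : g ∈ M) : indexTwoHom M h g = 1 := if_pos hg

theorem indexTwoHom_of_not_mem {G : Type*} [Group G] (M : Subgroup G) (h : M.index = 2) {g : G}
    (hg : g ∉ M) : indexTwoHom M h g = -1 := if_neg hg

/-- Thompson transfer, for a `2`-element `x` whose proper powers fuse only into `M` within `S`. -/
theorem exists_conj_mem_of_transfer {G : Type*} [Group G] [Finite G]
    (hG : ∀ H : Subgroup G, H.index ≠ 2) (S : Sylow 2 G) (M : Subgroup G) (hMS : M ≤ (S : Subgroup G))
    (hM : M.relIndex (S : Subgroup G) = 2) (x : G) (n : ℕ) (hxn : orderOf x = 2 ^ n)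
    (hpow : ∀ (k : ℕ) (g : G), 1 < k → k ∣ 2 ^ n → g⁻¹ * x ^ k * g ∈ (S : Subgroup G) → g⁻¹ * x ^ k * g ∈ M) :
    ∃ g : G, g * x * g⁻¹ ∈ M := by
  classical
  by_contra hno
  push Not at hno
  set H : Subgroup G := (S : Subgroup G) with hH
  haveI : Fintype (G ⧸ H) := Fintype.ofFinite _
  let φ : ↥H →* ℤˣ := indexTwoHom (M.subgroupOf H) hM
  let per : orbitRel.Quotient (zpowers x) (G ⧸ H) → ℕ := fun q => minimalPeriod (x • ·) q.out
  haveI : Fintype (orbitRel.Quotient (zpowers x) (G ⧸ H)) := Fintype.ofFinite _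
  have hdvd : ∀ q, per q ∣ 2 ^ n := fun q => by
    rw [← hxn]
    apply IsPeriodicPt.minimalPeriod_dvd
    show (x • ·)^[orderOf x] q.out = q.out
    simp only [smul_iterate, pow_orderOf_eq_one, one_smul]
  have hsum : ∑ q, per q = Nat.card (G ⧸ H) := by
    rw [Nat.card_congr (MulAction.selfEquivSigmaOrbits (zpowers x) (G ⧸ H)), Nat.card_sigma]
    exact Finset.sum_congr rfl fun q _ => by
      rw [Nat.card_eq_fintype_card]
      exact minimalPeriod_eq_card x q.out
  have hterm : ∀ q, φ ⟨q.out.out⁻¹ * x ^ per q * q.out.out,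
      QuotientGroup.out_conj_pow_minimalPeriod_mem H x q.out⟩ = (-1) ^ per q := by
    intro q
    rcases eq_or_ne (per q) 1 with h1 | h1
    · rw [show ((-1 : ℤˣ) ^ per q) = -1 by rw [h1, pow_one]]
      refine indexTwoHom_of_not_mem _ _ fun hm => hno q.out.out⁻¹ ?_
      rw [mem_subgroupOf] at hm
      simpa [per, h1] using hm
    · obtain ⟨a, -, ha⟩ := (Nat.dvd_prime_pow Nat.prime_two).1 (hdvd q)
      have ha0 : a ≠ 0 := by rintro rfl; exact h1 (by simpa using ha)
      have hev : Even (per q) := by rw [ha]; exact (Nat.even_pow.2 ⟨even_two, ha0⟩)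
      rw [hev.neg_one_pow]
      refine indexTwoHom_of_mem _ _ ?_
      rw [mem_subgroupOf]
      refine hpow _ _ ?_ (hdvd q) (QuotientGroup.out_conj_pow_minimalPeriod_mem H x q.out)
      rw [ha]
      exact Nat.one_lt_two_pow ha0
  have hodd : Odd (Nat.card (G ⧸ H)) :=
    Nat.not_even_iff_odd.1 fun he => S.not_dvd_index (even_iff_two_dvd.1 he)
  have hv : MonoidHom.transfer φ x = -1 := by
    rw [MonoidHom.transfer_eq_prod_quotient_orbitRel_zpowers_quot φ x]
    simp only [per] at hterm hsum
    rw [Finset.prod_congr rfl (fun q _ => hterm q), Finset.prod_pow_eq_pow_sum, hsum, hodd.neg_one_pow]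
  have hsurj : Surjective (MonoidHom.transfer φ) := by
    intro u
    rcases Int.units_eq_one_or u with rfl | rfl
    · exact ⟨1, map_one _⟩
    · exact ⟨x, hv⟩
  apply hG (MonoidHom.transfer φ).ker
  rw [index_ker, MonoidHom.range_eq_top.2 hsurj, card_top, Nat.card_eq_fintype_card,
    Fintype.card_units_int]

end Cfsg.Agent.H77
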