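import Cfsg.Agent.H35.Quotient
import Cfsg.Agent.H53.Cores
import Cfsg.Agent.H44.TISylow
import Cfsg.Agent.S0631
import Cfsg.Agent.H74.PGroupAction

set_option autoImplicit false

namespace Cfsg.Agent.H77

open Subgroup

/-- `p`-constraint is invariant under isomorphism. -/
theorem isPConstrained_of_mulEquiv {G Y : Type*} [Group G] [Group Y] [Finite G] {p : ℕ} [Fact p.Prime]
    (e : G ≃* Y) (h : Cfsg.IsPConstrained p G) : Cfsg.IsPConstrained p Y := by
  haveI : Finite Y := Finite.of_equiv G e.toEquiv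
  haveI := Cfsg.Agent.H51.pPrimeCore_normal p Y
  set q := QuotientGroup.mk' (Cfsg.pPrimeCore p Y) with hq
  have hf : Function.Surjective (q.comp e.toMonoidHom) :=
    (QuotientGroup.mk'_surjective _).comp e.surjective
  have hker : (q.comp e.toMonoidHom).ker = (Cfsg.pPrimeCore p Y).comap e.toMonoidHom := by
    rw [← MonoidHom.comap_ker, hq, QuotientGroup.ker_mk']
  have hcop : (Nat.card (q.comp e.toMonoidHom).ker).Coprime p := by
    rw [hker, Subgroup.comap_equiv_eq_map_symm', Subgroup.card_map_of_injective e.symm.injective]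
    exact Cfsg.Agent.H51.pPrimeCore_coprime p Y
  exact Cfsg.Agent.H51.isPConstrained_iff_centralizer_pCore_le.2
    ((Cfsg.Agent.H35.isPConstrained_iff_of_surjective _ hf hcop (Cfsg.Agent.H51.pPrimeCore_quotient_self p)).1 h)

/-- A group with a normal `p`-subgroup whose centralizer is `p`-constrained is `p`-constrained. -/
theorem isPConstrained_of_centralizer {N : Type*} [Group N] [Finite N] {p : ℕ} [Fact p.Prime]
    (T : Subgroup N) [T.Normal] (hT : IsPGroup p ↥T)
    (hC : Cfsg.IsPConstrained p ↥(centralizer (T : Set N))) : Cfsg.IsPConstrained p N := by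
  classical
  haveI := Cfsg.Agent.H51.pPrimeCore_normal p N
  haveI := Cfsg.Agent.H51.pCore_normal p (N ⧸ Cfsg.pPrimeCore p N)
  haveI hUn : (Cfsg.pPrimePCore p N).Normal := Normal.comap inferInstance _
  set U := Cfsg.pPrimePCore p N with hU
  intro P
  set C := centralizer (T : Set N) with hCdef
  haveI hCn : C.Normal := inferInstance
  haveI := Cfsg.Agent.H51.pPrimeCore_normal p ↥C
  haveI := Cfsg.Agent.H51.pCore_normal p (↥C ⧸ Cfsg.pPrimeCore p ↥C)
  haveI hWn : (Cfsg.pPrimePCore p ↥C).Normal := Normal.comap inferInstance _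
  haveI hWc : (Cfsg.pPrimePCore p ↥C).Characteristic := by
    rw [characteristic_iff_map_le]
    intro φ
    rintro _ ⟨w, hw, rfl⟩
    have hw' : QuotientGroup.mk' (Cfsg.pPrimeCore p ↥C) w ∈ Cfsg.pCore p (↥C ⧸ Cfsg.pPrimeCore p ↥C) := hw
    haveI := Cfsg.Agent.H51.pPrimeCore_characteristic p ↥C
    let ψ := QuotientGroup.congr (Cfsg.pPrimeCore p ↥C) (Cfsg.pPrimeCore p ↥C) φ
      (characteristic_iff_map_eq.1 inferInstance φ)
    have := (Cfsg.Agent.H51.pCore_map_equiv p ψ).le (mem_map_of_mem ψ.toMonoidHom hw')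
    exact this
  set V := (Cfsg.pPrimePCore p ↥C).map C.subtype with hV
  haveI hVn : V.Normal := ConjAct.normal_of_characteristic_of_normal
  have hOle : (Cfsg.pPrimeCore p ↥C).map C.subtype ≤ Cfsg.pPrimeCore p N :=
    Cfsg.Agent.H51.pPrimeCore_map_subtype_le_of_subnormal p hCn.isSubnormal
  have hVU : V ≤ U := by
    rw [hU]
    refine map_le_iff_le_comap.1 ?_
    haveI : (V.map (QuotientGroup.mk' (Cfsg.pPrimeCore p N))).Normal :=
      Normal.map hVn _ (QuotientGroup.mk'_surjective _)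
    refine Cfsg.Agent.H51.le_pCore inferInstance ?_
    rintro ⟨_, v, ⟨w, hw, rfl⟩, rfl⟩
    obtain ⟨k, hk⟩ := Cfsg.Agent.H51.pCore_isPGroup p (↥C ⧸ Cfsg.pPrimeCore p ↥C)
      ⟨_, (hw : QuotientGroup.mk' (Cfsg.pPrimeCore p ↥C) w ∈ _)⟩
    refine ⟨k, Subtype.ext ?_⟩
    have h1 : w ^ p ^ k ∈ Cfsg.pPrimeCore p ↥C := by
      rw [← QuotientGroup.eq_one_iff]
      exact congrArg Subtype.val hk
    show (QuotientGroup.mk' (Cfsg.pPrimeCore p N) (w : N)) ^ p ^ k = 1
    rw [← map_pow]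
    exact (QuotientGroup.eq_one_iff _).2 (hOle ⟨_, h1, rfl⟩)
  have hTU : T ≤ U := by
    rw [hU]
    refine map_le_iff_le_comap.1 ?_
    haveI : (T.map (QuotientGroup.mk' (Cfsg.pPrimeCore p N))).Normal :=
      Normal.map inferInstance _ (QuotientGroup.mk'_surjective _)
    exact Cfsg.Agent.H51.le_pCore inferInstance (hT.map _)
  have hTP : T.subgroupOf U ≤ (P : Subgroup U) :=
    (hT.comap_of_injective U.subtype U.subtype_injective).le_sylow_of_normal P
  intro x hx
  have hxC : x ∈ C := mem_centralizer_iff.2 fun t ht =>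
    mem_centralizer_iff.1 hx t ⟨⟨t, hTU ht⟩, hTP (show (⟨t, hTU ht⟩ : ↥U) ∈ T.subgroupOf U from mem_subgroupOf.2 ht), rfl⟩
  haveI : (V.subgroupOf U).Normal := inferInstance
  obtain ⟨Q, hQ⟩ := Cfsg.Agent.H44.exists_sylow_eq_subgroupOf P (V.subgroupOf U)
  let e : ↥(Cfsg.pPrimePCore p ↥C) ≃* ↥(V.subgroupOf U) :=
    ((Cfsg.pPrimePCore p ↥C).equivMapOfInjective C.subtype C.subtype_injective).trans
      (subgroupOfEquivOfLe hVU).symm
  let Q' : Sylow p ↥(Cfsg.pPrimePCore p ↥C) := Q.comapOfInjective e.toMonoidHom e.injective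
    (by rw [MonoidHom.range_eq_top.2 e.surjective]; exact le_top)
  have := hC Q' (x := ⟨x, hxC⟩) (mem_centralizer_iff.2 ?_)
  · exact hVU ⟨_, this, rfl⟩
  · rintro _ ⟨w, hw, rfl⟩
    have hw' : e w ∈ (Q : Subgroup ↥(V.subgroupOf U)) := hw
    rw [hQ, mem_subgroupOf] at hw'
    apply Subtype.ext
    exact mem_centralizer_iff.1 hx _ ⟨_, hw', rfl⟩

end Cfsg.Agent.H77

namespace Cfsg.Agent.H77

open Subgroup

/-- In a `p`-constrained group without `p'`-core, `C(O_p) ≤ O_p`. -/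
theorem centralizer_pCore_le_of_constrained {M : Type*} [Group M] [Finite M] {p : ℕ} [Fact p.Prime]
    (hc : Cfsg.IsPConstrained p M) (hO : Cfsg.pPrimeCore p M = ⊥) :
    centralizer (Cfsg.pCore p M : Set M) ≤ Cfsg.pCore p M :=
  (Cfsg.Agent.H35.isPConstrained_iff_of_surjective (MonoidHom.id M) Function.surjective_id
    (by rw [(MonoidHom.ker_eq_bot_iff _).2 Function.injective_id, Subgroup.card_bot]; exact Nat.coprime_one_left p)
    hO).1 hc

/-- An odd subgroup of a core-free `2`-constrained subgroup `M` normalized by a `2`-subgroup `T` of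
index at most two in a Sylow subgroup is trivial. -/
theorem eq_bot_of_normalized_by_large {G : Type*} [Group G] [Finite G] (S : Sylow 2 G) {T M Y : Subgroup G}
    (hTS : T ≤ (S : Subgroup G)) (hTi : T.relIndex (S : Subgroup G) ≤ 2) (hTM : T ≤ M) (hYM : Y ≤ M)
    (hc : Cfsg.IsPConstrained 2 ↥M) (hO : Cfsg.oddCore ↥M = ⊥) (hY : Odd (Nat.card ↥Y))
    (hTY : T ≤ normalizer (Y : Set G)) : Y = ⊥ := by
  classical
  have hQc := centralizer_pCore_le_of_constrained hc hO
  haveI := Cfsg.Agent.H51.pCore_normal 2 ↥M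
  set Q := (Cfsg.pCore 2 ↥M).map M.subtype with hQdef
  have hQ2 : IsPGroup 2 ↥Q := (Cfsg.Agent.H51.pCore_isPGroup 2 ↥M).map _
  have hQn : ∀ m ∈ M, ∀ q ∈ Q, m * q * m⁻¹ ∈ Q := by
    rintro m hm _ ⟨q, hq, rfl⟩
    exact ⟨⟨m, hm⟩ * q * ⟨m, hm⟩⁻¹, (inferInstance : (Cfsg.pCore 2 ↥M).Normal).conj_mem q hq _, rfl⟩
  obtain ⟨k, hk⟩ : ∃ k, Nat.card ↥(Q ⊔ T) ≤ k ∧ k ≤ Nat.card ↥(S : Subgroup G) := by
    have hTN : T ≤ normalizer (Q : Set G) := fun t ht =>
      Subgroup.mem_normalizer_iff.2 fun q => ⟨hQn t (hTM ht) q, fun h => by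
        simpa [mul_assoc] using hQn t⁻¹ (inv_mem (hTM ht)) _ h⟩
    obtain ⟨R, hR⟩ := (hQ2.to_sup_of_normal_left' (S.isPGroup'.to_le hTS) hTN).exists_le_sylow
    exact ⟨Nat.card ↥(R : Subgroup G), Subgroup.card_le_of_le hR, by
      rw [R.card_eq_multiplicity, S.card_eq_multiplicity]⟩
  have hidx : (T.subgroupOf Q).index ≤ 2 := by
    show T.relIndex Q ≤ 2
    have h1 : T.relIndex (Q ⊔ T) * Nat.card ↥T = Nat.card ↥(Q ⊔ T) := by
      rw [← Subgroup.relIndex_bot_left T, ← Subgroup.relIndex_bot_left (Q ⊔ T), mul_comm,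
        Subgroup.relIndex_mul_relIndex ⊥ T (Q ⊔ T) bot_le le_sup_right]
    have h2 : T.relIndex (S : Subgroup G) * Nat.card ↥T = Nat.card ↥(S : Subgroup G) := by
      rw [← Subgroup.relIndex_bot_left T, ← Subgroup.relIndex_bot_left (S : Subgroup G), mul_comm,
        Subgroup.relIndex_mul_relIndex ⊥ T _ bot_le hTS]
    have h3 : T.relIndex (Q ⊔ T) ≤ 2 := by
      have h4 : T.relIndex (Q ⊔ T) * Nat.card ↥T ≤ 2 * Nat.card ↥T := by
        rw [h1]
        calc Nat.card ↥(Q ⊔ T) ≤ k := hk.1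
          _ ≤ Nat.card ↥(S : Subgroup G) := hk.2
          _ ≤ 2 * Nat.card ↥T := by rw [← h2]; exact Nat.mul_le_mul_right _ hTi
      exact Nat.le_of_mul_le_mul_right h4 Nat.card_pos
    exact (Subgroup.relIndex_le_of_le_right le_sup_left (show (T.subgroupOf (Q ⊔ T)).index ≠ 0 from Subgroup.index_ne_zero_of_finite)).trans h3
  have hcomm : ∀ y ∈ Y, ∀ q ∈ Q, q ∈ T → Commute y q := by
    intro y hy q hq hqT
    have h1 : y * q * y⁻¹ * q⁻¹ ∈ Y ⊓ Q := by
      refine Subgroup.mem_inf.2 ⟨?_, mul_mem (hQn y (hYM hy) q hq) (inv_mem hq)⟩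
      rw [mul_assoc, mul_assoc]
      exact mul_mem hy (by rw [← mul_assoc]; exact (Subgroup.mem_normalizer_iff.1 (hTY hqT) y⁻¹).1 (inv_mem hy))
    have h2 : Y ⊓ Q = ⊥ := by
      obtain ⟨a, ha⟩ := hQ2.exists_card_eq
      exact Subgroup.inf_eq_bot_of_coprime (by rw [ha]; exact Nat.Coprime.pow_right _ hY.coprime_two_right)
    rw [h2, Subgroup.mem_bot, mul_inv_eq_one, mul_inv_eq_iff_eq_mul] at h1
    exact h1
  rw [eq_bot_iff]
  intro y hy
  have hyo : Odd (orderOf y) := Odd.of_dvd_nat hY (Subgroup.orderOf_dvd_natCard Y hy)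
  have hall : ∀ q ∈ Q, Commute y q := by
    intro q hq
    by_cases hqT : q ∈ T
    · exact hcomm y hy q hq hqT
    have hne1 : (T.subgroupOf Q).index ≠ 1 := fun h => by
      rw [Subgroup.index_eq_one, Subgroup.subgroupOf_eq_top] at h
      exact hqT (h hq)
    have hpos := Subgroup.index_ne_zero_of_finite (H := T.subgroupOf Q)
    have hidx2 : (T.subgroupOf Q).index = 2 := by omega
    have hconj : y * q * y⁻¹ ∉ T := fun h => by
      have h5 := (hcomm y hy _ (hQn y (hYM hy) q hq) h).eq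
      have : y * q * y⁻¹ = q := by
        have h6 : y * (y * q * y⁻¹) * y⁻¹ = y * q * y⁻¹ := by rw [h5, mul_inv_cancel_right]
        exact mul_left_cancel (mul_right_cancel h6)
      exact hqT (this ▸ h)
    have hc' : y * q * y⁻¹ * q⁻¹ ∈ T := by
      have h7 : (⟨y * q * y⁻¹, hQn y (hYM hy) q hq⟩ : ↥Q) * ⟨q, hq⟩⁻¹ ∈ T.subgroupOf Q := by
        rw [Subgroup.mul_mem_iff_of_index_two hidx2, inv_mem_iff, Subgroup.mem_subgroupOf, Subgroup.mem_subgroupOf]
        exact iff_of_false hconj hqT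
      exact h7
    refine Cfsg.Agent.H74.commute_of_commutator_mem hQ2 (fun h => ?_) ?_ ?_
    · exact Nat.not_even_iff_odd.2 hyo (even_iff_two_dvd.2 h)
    · rw [commutatorElement_def]; exact mul_mem (hQn y (hYM hy) q hq) (inv_mem hq)
    · rw [commutatorElement_def]
      exact hcomm y hy _ (mul_mem (hQn y (hYM hy) q hq) (inv_mem hq)) hc'
  have hyQ : (⟨y, hYM hy⟩ : ↥M) ∈ Cfsg.pCore 2 ↥M := hQc (Subgroup.mem_centralizer_iff.2 fun q hq =>
    Subtype.ext (hall q ⟨q, hq, rfl⟩).eq.symm)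
  have hyQ' : y ∈ Q := ⟨⟨y, hYM hy⟩, hyQ, rfl⟩
  obtain ⟨a, ha⟩ := IsPGroup.iff_orderOf.1 hQ2 ⟨y, hyQ'⟩
  rw [Subgroup.orderOf_mk] at ha
  rw [Subgroup.mem_bot, ← orderOf_eq_one_iff, ha]
  rcases Nat.eq_zero_or_pos a with rfl | h0
  · rfl
  · exact absurd (ha ▸ Nat.even_pow.2 ⟨even_two, h0.ne'⟩) (Nat.not_even_iff_odd.2 hyo)

end Cfsg.Agent.H77

namespace Cfsg.Agent.H77

/-- If centralizers of elements of order `p` are `p`-constrained then so are `p`-local subgroups. -/
theorem isPConstrained_normalizer_of_centralizers {G : Type*} [Group G] [Finite G] (p : ℕ) [hp : Fact p.Prime]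
    (hcen : ∀ x : G, orderOf x = p → Cfsg.IsPConstrained p ↥(Subgroup.centralizer ({x} : Set G)))
    (T : Subgroup G) (hT : IsPGroup p ↥T) (hT1 : T ≠ ⊥) :
    Cfsg.IsPConstrained p ↥(Subgroup.normalizer (T : Set G)) := by
  haveI : Nontrivial ↥T := (Subgroup.nontrivial_iff_ne_bot T).2 hT1
  haveI := hT.center_nontrivial
  obtain ⟨⟨w, hwc⟩, hw1⟩ := exists_ne (1 : ↥(Subgroup.center ↥T))
  obtain ⟨n, hn⟩ := IsPGroup.iff_orderOf.1 hT w
  have hn0 : n ≠ 0 := by
    rintro rfl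
    exact hw1 (Subtype.ext (orderOf_eq_one_iff.1 (by simpa using hn)))
  set x : ↥T := w ^ p ^ (n - 1) with hxdef
  have hxo : orderOf (x : G) = p := by
    rw [Subgroup.orderOf_coe, hxdef, orderOf_pow, hn, Nat.gcd_eq_right (pow_dvd_pow p (Nat.sub_le n 1)),
      Nat.pow_div (Nat.sub_le n 1) hp.out.pos, show n - (n - 1) = 1 by omega, pow_one]
  set K := Subgroup.centralizer ({(x : G)} : Set G) with hK
  have hCK : Subgroup.centralizer (T : Set G) ≤ K :=
    Subgroup.centralizer_le (Set.singleton_subset_iff.2 x.2)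
  have hTK : T ≤ K := by
    intro t ht
    rw [hK, Subgroup.mem_centralizer_singleton_iff]
    exact congrArg Subtype.val (Subgroup.mem_center_iff.1 (pow_mem hwc (p ^ (n - 1))) ⟨t, ht⟩)
  have h1 := (Cfsg.Agent.S0631.result (hcen x hxo) (T.subgroupOf K)
    (hT.comap_of_injective K.subtype K.subtype_injective)).2
  set N := Subgroup.normalizer (T : Set G) with hN
  have hCN : Subgroup.centralizer (T : Set G) ≤ N := Subgroup.centralizer_le_normalizer _
  haveI : (T.subgroupOf N).Normal := Subgroup.normal_subgroupOf_of_le_normalizer le_rfl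
  refine isPConstrained_of_centralizer (T.subgroupOf N)
    (hT.comap_of_injective N.subtype N.subtype_injective) ?_
  have hsub : ∀ (L : Subgroup G), Subgroup.centralizer (T : Set G) ≤ L → T ≤ L →
      Subgroup.centralizer ((T.subgroupOf L : Subgroup ↥L) : Set ↥L) = (Subgroup.centralizer (T : Set G)).subgroupOf L := by
    intro L hCL hTL
    ext y
    simp only [Subgroup.mem_centralizer_iff, Subgroup.mem_subgroupOf, SetLike.mem_coe]
    constructor
    · intro hy t ht
      exact congrArg Subtype.val (hy ⟨t, hTL ht⟩ ht)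
    · intro hy t ht
      exact Subtype.ext (hy t ht)
  rw [hsub K hCK hTK] at h1
  rw [hsub N hCN Subgroup.le_normalizer]
  exact isPConstrained_of_mulEquiv
    ((Subgroup.subgroupOfEquivOfLe hCK).trans (Subgroup.subgroupOfEquivOfLe hCN).symm) h1

end Cfsg.Agent.H77
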