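import Cfsg.Agent.H6.Four
import Cfsg.Agent.H67.FieldAuto

/-!
# Automorphisms of `PSL₂(q)`, `q` odd

Every automorphism is induced by conjugation with an invertible matrix and a field automorphism.
If `q ≡ ±3 (mod 8)`, no automorphism of order two fixes the normalizer of a four-group pointwise.
-/

set_option autoImplicit false
set_option linter.unusedSectionVars false

open Matrix MatrixGroups

namespace Cfsg.Agent.H77.PSL2Aut

open Cfsg.Agent.H6

variable {F : Type*} [Field F] [Fintype F]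

local notation "M₂" => Matrix (Fin 2) (Fin 2) F

/-- Upper unitriangular element. -/
def up (x : F) : SL(2, F) := sl2 1 x 0 1 (by ring)

/-- Lower unitriangular element. -/
def lo (x : F) : SL(2, F) := sl2 1 0 x 1 (by ring)

lemma up_mul (x y : F) : up x * up y = up (x + y) := by
  apply sl2_ext <;> simp [up, sl2_mul] <;> ring

lemma lo_mul (x y : F) : lo x * lo y = lo (x + y) := by
  apply sl2_ext <;> simp [lo, sl2_mul] <;> ring

lemma up_zero : up (0 : F) = 1 := by apply sl2_ext <;> simp [up]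

lemma lo_zero : lo (0 : F) = 1 := by apply sl2_ext <;> simp [lo]

lemma up_inv (x : F) : (up x)⁻¹ = up (-x) :=
  inv_eq_of_mul_eq_one_right (by rw [up_mul, add_neg_cancel, up_zero])

lemma lo_inv (x : F) : (lo x)⁻¹ = lo (-x) :=
  inv_eq_of_mul_eq_one_right (by rw [lo_mul, add_neg_cancel, lo_zero])

/-- The image of the upper unitriangular elements. -/
def U : Subgroup PSL(2, F) where
  carrier := Set.range fun x : F => π (up x)
  one_mem' := ⟨0, by simp [up_zero]⟩
  mul_mem' := by rintro _ _ ⟨x, rfl⟩ ⟨y, rfl⟩; exact ⟨x + y, by simp [← map_mul, up_mul]⟩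
  inv_mem' := by rintro _ ⟨x, rfl⟩; exact ⟨-x, by simp [← map_inv, up_inv]⟩

/-- The image of the lower unitriangular elements. -/
def L : Subgroup PSL(2, F) where
  carrier := Set.range fun x : F => π (lo x)
  one_mem' := ⟨0, by simp [lo_zero]⟩
  mul_mem' := by rintro _ _ ⟨x, rfl⟩ ⟨y, rfl⟩; exact ⟨x + y, by simp [← map_mul, lo_mul]⟩
  inv_mem' := by rintro _ ⟨x, rfl⟩; exact ⟨-x, by simp [← map_inv, lo_inv]⟩

lemma π_up_inj {x y : F} (h : π (up x) = π (up y)) (h2 : (2 : F) ≠ 0) : x = y := by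
  rcases π_eq_iff.1 h with e | e
  · simpa [up] using congrArg (fun g : SL(2, F) => g 0 1) e
  · exfalso
    have := congrArg (fun g : SL(2, F) => g 0 0) e
    simp [up, sl2_neg] at this
    exact h2 (by linear_combination this)

lemma π_lo_inj {x y : F} (h : π (lo x) = π (lo y)) (h2 : (2 : F) ≠ 0) : x = y := by
  rcases π_eq_iff.1 h with e | e
  · simpa [lo] using congrArg (fun g : SL(2, F) => g 1 0) e
  · exfalso
    have := congrArg (fun g : SL(2, F) => g 0 0) e
    simp [lo, sl2_neg] at this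
    exact h2 (by linear_combination this)

lemma card_U (h2 : (2 : F) ≠ 0) : Nat.card (U : Subgroup PSL(2, F)) = Fintype.card F := by
  rw [← Nat.card_eq_fintype_card]
  exact (Nat.card_congr (Equiv.ofInjective _ fun x y h => π_up_inj h h2)).symm

/-- A conjugate of `U` different from `U` is a `U`-conjugate of `L`. -/
lemma conj_U_cases (h2 : (2 : F) ≠ 0) (g : SL(2, F)) :
    (g 1 0 = 0 ∧ ∀ u ∈ (U : Subgroup PSL(2, F)), π g * u * (π g)⁻¹ ∈ U) ∨
      ∃ x : F, ∀ u ∈ (U : Subgroup PSL(2, F)), π (up (-x)) * (π g * u * (π g)⁻¹) * (π (up (-x)))⁻¹ ∈ L := by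
  have hd := sl2_det g
  by_cases hc : g 1 0 = 0
  · refine Or.inl ⟨hc, ?_⟩
    rintro _ ⟨y, rfl⟩
    refine ⟨g 0 0 * g 0 0 * y, ?_⟩
    simp only [← map_inv, ← map_mul]
    congr 1
    rw [eq_mul_inv_iff_mul_eq]
    apply sl2_ext <;> simp [up, sl2_mul, hc]
    linear_combination (g 0 0 * y) * hd + (g 0 0 * y * g 0 1) * hc
  · refine Or.inr ⟨g 0 0 / g 1 0, ?_⟩
    rintro _ ⟨y, rfl⟩
    refine ⟨-(g 1 0 * g 1 0 * y), ?_⟩
    simp only [← map_inv, ← map_mul]
    congr 1
    rw [eq_mul_inv_iff_mul_eq, ← mul_assoc, eq_mul_inv_iff_mul_eq]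
    apply sl2_ext <;> simp [up, lo, sl2_mul] <;> field_simp <;> ring_nf
    all_goals linear_combination (g 1 0 * y) * hd

/-- An element normalizing `U` is upper triangular. -/
lemma eq_zero_of_normalizes_U {g : SL(2, F)} (h : π g * π (up 1) * (π g)⁻¹ ∈ (U : Subgroup PSL(2, F))) :
    g 1 0 = 0 := by
  obtain ⟨x, hx⟩ := h
  simp only [← map_inv, ← map_mul] at hx
  rcases π_eq_iff.1 hx with e | e
  · have := congrArg (fun k : SL(2, F) => k 1 0) e
    simp [up, sl2_mul, sl2_inv_00, sl2_inv_10] at this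
    exact mul_self_eq_zero.1 (by linear_combination this)
  · have := congrArg (fun k : SL(2, F) => k 1 0) e
    simp [up, sl2_mul, sl2_inv_00, sl2_inv_10, sl2_neg] at this
    exact mul_self_eq_zero.1 (by linear_combination (-1 : F) * this)

/-- An element normalizing `L` is lower triangular. -/
lemma eq_zero_of_normalizes_L {g : SL(2, F)} (h : π g * π (lo 1) * (π g)⁻¹ ∈ (L : Subgroup PSL(2, F))) :
    g 0 1 = 0 := by
  obtain ⟨x, hx⟩ := h
  simp only [← map_inv, ← map_mul] at hx
  rcases π_eq_iff.1 hx with e | e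
  · have := congrArg (fun k : SL(2, F) => k 0 1) e
    simp [lo, sl2_mul, sl2_inv_01, sl2_inv_11] at this
    exact mul_self_eq_zero.1 (by linear_combination this)
  · have := congrArg (fun k : SL(2, F) => k 0 1) e
    simp [lo, sl2_mul, sl2_inv_01, sl2_inv_11, sl2_neg] at this
    exact mul_self_eq_zero.1 (by linear_combination (-1 : F) * this)

/-- Every element of `SL₂` is in the subgroup generated by the unitriangular elements. -/
lemma mem_closure_unitriangular (g : SL(2, F)) :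
    g ∈ Subgroup.closure (Set.range (up (F := F)) ∪ Set.range (lo (F := F))) := by
  set H := Subgroup.closure (Set.range (up (F := F)) ∪ Set.range (lo (F := F)))
  have hu : ∀ x, up x ∈ H := fun x => Subgroup.subset_closure (Or.inl ⟨x, rfl⟩)
  have hl : ∀ x, lo x ∈ H := fun x => Subgroup.subset_closure (Or.inr ⟨x, rfl⟩)
  have key : ∀ g : SL(2, F), g 1 0 ≠ 0 → g ∈ H := by
    intro g hc
    have hd := sl2_det g
    have : g = up ((g 0 0 - 1) / g 1 0) * lo (g 1 0) * up ((g 1 1 - 1) / g 1 0) := by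
      apply sl2_ext <;> simp [up, lo, sl2_mul] <;> field_simp <;> ring_nf
      all_goals linear_combination -hd
    rw [this]
    exact mul_mem (mul_mem (hu _) (hl _)) (hu _)
  by_cases hc : g 1 0 = 0
  · have : ((g * lo 1 : SL(2, F)) : M₂) 1 0 ≠ 0 := by
      have hd := sl2_det g
      intro e
      simp [lo, sl2_mul, hc] at e
      rw [e, hc] at hd
      simp at hd
    simpa using mul_mem (key _ this) (inv_mem (hl 1))
  · exact key g hc

/-- Every element of a finite field of odd order is a sum of two squares. -/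
lemma exists_sq_add_sq (h2 : (2 : F) ≠ 0) (y : F) : ∃ a b : F, a * a + b * b = y := by
  obtain ⟨a, b, hab⟩ := FiniteField.exists_root_sum_quadratic (R := F)
    (f := Polynomial.X ^ 2) (g := Polynomial.X ^ 2 - Polynomial.C y)
    (Polynomial.degree_X_pow 2) (Polynomial.degree_X_pow_sub_C (by norm_num) _) (odd_of_two_ne rfl h2)
  refine ⟨a, b, ?_⟩
  simp only [Polynomial.eval_pow, Polynomial.eval_X, Polynomial.eval_sub, Polynomial.eval_C] at hab
  linear_combination hab

/-- An additive map `θ` with `θ (a² x) = c a · θ x` is a multiple of a field automorphism. -/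
lemma exists_ringEquiv (h2 : (2 : F) ≠ 0) (θ : F → F) (hinj : Function.Injective θ)
    (hadd : ∀ x y, θ (x + y) = θ x + θ y) (c : F → F) (hsq : ∀ a x, θ (a * a * x) = c a * θ x) :
    ∃ σ : F ≃+* F, (∀ x, θ x = θ 1 * σ x) ∧ θ 1 ≠ 0 ∧ ∀ a, c a = σ (a * a) := by
  have h0 : θ 0 = 0 := by
    have := hadd 0 0
    rw [add_zero] at this
    linear_combination -this
  have h1 : θ 1 ≠ 0 := fun h => one_ne_zero (hinj (h.trans h0.symm))
  have hc : ∀ a, c a = θ (a * a) / θ 1 := fun a => by
    rw [eq_div_iff h1, ← hsq a 1, mul_one]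
  have hm : ∀ x y, θ (x * y) / θ 1 = θ x / θ 1 * (θ y / θ 1) := by
    intro x y
    obtain ⟨a, b, rfl⟩ := exists_sq_add_sq h2 x
    rw [add_mul, hadd, hadd, hsq, hsq, hc, hc]
    field_simp
  let f : F →+* F :=
    { toFun := fun x => θ x / θ 1
      map_one' := div_self h1
      map_mul' := hm
      map_zero' := by simp [h0]
      map_add' := fun x y => by simp [hadd, add_div] }
  have hb : Function.Bijective f := by
    refine ⟨f.injective, ?_⟩
    exact Finite.injective_iff_surjective.1 f.injective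
  refine ⟨RingEquiv.ofBijective f hb, fun x => ?_, h1, fun a => ?_⟩
  · show θ x = θ 1 * (θ x / θ 1)
    field_simp
  · exact hc a

/-- Diagonal elements act on `U` and `L` by squares. -/
lemma diag_conj (a x : F) (ha : a ≠ 0) :
    sl2 a 0 0 a⁻¹ (by field_simp; ring) * up x * (sl2 a 0 0 a⁻¹ (by field_simp; ring))⁻¹ = up (a * a * x) ∧
      sl2 a 0 0 a⁻¹ (by field_simp; ring) * lo x * (sl2 a 0 0 a⁻¹ (by field_simp; ring))⁻¹
        = lo (a⁻¹ * a⁻¹ * x) := by
  refine ⟨?_, ?_⟩ <;> rw [mul_inv_eq_iff_eq_mul] <;> apply sl2_ext <;> simp [up, lo, sl2_mul] <;> field_simp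

/-- Every automorphism of `PSL₂(q)`, `q` odd, is a matrix conjugation times a field automorphism. -/
theorem exists_conj_field (h2 : (2 : F) ≠ 0) (β : PSL(2, F) ≃* PSL(2, F)) :
    ∃ (σ : F ≃+* F) (M M' : M₂), M * M' = 1 ∧ M' * M = 1 ∧ ∀ g h : SL(2, F), β (π g) = π h →
      (h : M₂) = M * (g : M₂).map σ * M' ∨ (h : M₂) = -(M * (g : M₂).map σ * M') := by
  classical
  obtain ⟨p, hchar⟩ := CharP.exists F
  obtain ⟨f, hp, hF⟩ := FiniteField.card F p
  haveI : Fact p.Prime := ⟨hp⟩
  have hUp : IsPGroup p (U : Subgroup PSL(2, F)) := IsPGroup.of_card (n := f) ((card_U h2).trans hF)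
  have hidx : ¬ p ∣ (U : Subgroup PSL(2, F)).index := by
    intro hd
    have h := (U : Subgroup PSL(2, F)).card_mul_index
    have hc := card_psl2_odd h2 (rfl : Fintype.card F = _)
    rw [← h, card_U h2, ← mul_assoc, mul_comm 2, mul_assoc] at hc
    have hc' := Nat.eq_of_mul_eq_mul_left Fintype.card_pos hc
    have h1 : p ∣ Fintype.card F ^ 2 - 1 := hc' ▸ dvd_mul_of_dvd_right hd _
    have h3 : p ∣ Fintype.card F ^ 2 := dvd_pow (hF ▸ dvd_pow_self p f.ne_zero) two_ne_zero
    have := Nat.dvd_sub h3 h1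
    rw [Nat.sub_sub_self (Nat.one_le_pow _ _ Fintype.card_pos)] at this
    exact hp.one_lt.ne' (Nat.dvd_one.1 this)
  let P : Sylow p PSL(2, F) := hUp.toSylow hidx
  have hsyl : ∀ (γ : PSL(2, F) ≃* PSL(2, F)) (Q : Subgroup PSL(2, F)), IsPGroup p Q →
      Nat.card Q = Nat.card (U : Subgroup PSL(2, F)) →
      ∃ g, ∀ u ∈ Q, ∃ v ∈ (U : Subgroup PSL(2, F)), γ u = π g * v * (π g)⁻¹ := by
    intro γ Q hQ hQc
    obtain ⟨R, hR⟩ := (hQ.map γ.toMonoidHom).exists_le_sylow
    obtain ⟨x, hx⟩ := MulAction.exists_smul_eq PSL(2, F) P R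
    obtain ⟨g, rfl⟩ := π_surjective x
    refine ⟨g, fun u hu => ?_⟩
    have hmem := hR (Subgroup.mem_map_of_mem γ.toMonoidHom hu)
    rw [← hx, Sylow.smul_def, Sylow.pointwise_smul_def, Subgroup.mem_pointwise_smul_iff_inv_smul_mem] at hmem
    refine ⟨_, hmem, ?_⟩
    simp [MulAut.smul_def, MulAut.conj_symm_apply]
    group
  have hLp : IsPGroup p (L : Subgroup PSL(2, F)) ∧
      Nat.card (L : Subgroup PSL(2, F)) = Nat.card (U : Subgroup PSL(2, F)) := by
    have hc : Nat.card (L : Subgroup PSL(2, F)) = Fintype.card F := by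
      rw [← Nat.card_eq_fintype_card]
      exact (Nat.card_congr (Equiv.ofInjective _ fun x y h => π_lo_inj h h2)).symm
    exact ⟨IsPGroup.of_card (n := f) (hc.trans hF), hc.trans (card_U h2).symm⟩
  -- normalize `β` on `U`
  obtain ⟨g, hg⟩ := hsyl β U hUp rfl
  let τ₁ : PSL(2, F) ≃* PSL(2, F) := β.trans (MulAut.conj (π g)⁻¹)
  have hτ₁ : ∀ z, τ₁ z = (π g)⁻¹ * β z * π g := fun z => by
    simp [τ₁, MulAut.conj_apply]
  have hτ₁U : ∀ u ∈ (U : Subgroup PSL(2, F)), τ₁ u ∈ U := by
    intro u hu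
    obtain ⟨v, hv, e⟩ := hg u hu
    rw [hτ₁, e]
    simpa [mul_assoc] using hv
  have hsurjU : ∀ v ∈ (U : Subgroup PSL(2, F)), ∃ u ∈ (U : Subgroup PSL(2, F)), τ₁ u = v := by
    intro v hv
    let r : ↥(U : Subgroup PSL(2, F)) → ↥(U : Subgroup PSL(2, F)) := fun u => ⟨τ₁ u, hτ₁U u u.2⟩
    obtain ⟨u, hu⟩ := Finite.injective_iff_surjective.1
      (show Function.Injective r from fun a b e => Subtype.ext (τ₁.injective (congrArg Subtype.val e))) ⟨v, hv⟩
    exact ⟨u, u.2, congrArg Subtype.val hu⟩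
  -- normalize on `L`
  obtain ⟨g', hg'⟩ := hsyl τ₁ L hLp.1 hLp.2
  obtain ⟨x₀, hx₀⟩ : ∃ x : F, ∀ u ∈ (L : Subgroup PSL(2, F)), π (up (-x)) * τ₁ u * (π (up (-x)))⁻¹ ∈ L := by
    rcases conj_U_cases h2 g' with ⟨-, hU⟩ | ⟨x, hx⟩
    · exfalso
      obtain ⟨v, hv, e⟩ := hg' (π (lo 1)) ⟨1, rfl⟩
      obtain ⟨u, ⟨y, rfl⟩, he⟩ := hsurjU _ (hU v hv)
      have := τ₁.injective (e.trans he.symm)
      rcases π_eq_iff.1 this with e' | e'
      · simpa [up, lo] using congrArg (fun k : SL(2, F) => k 1 0) e'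
      · simpa [up, lo, sl2_neg] using congrArg (fun k : SL(2, F) => k 1 0) e'
    · refine ⟨x, fun u hu => ?_⟩
      obtain ⟨v, hv, e⟩ := hg' u hu
      rw [e]
      exact hx v hv
  let τ : PSL(2, F) ≃* PSL(2, F) := τ₁.trans (MulAut.conj (π (up (-x₀))))
  have hτ : ∀ z, τ z = π (up (-x₀)) * τ₁ z * (π (up (-x₀)))⁻¹ := fun z => by simp [τ, MulAut.conj_apply]
  have hτU : ∀ u ∈ (U : Subgroup PSL(2, F)), τ u ∈ U := fun u hu => by
    rw [hτ]; exact mul_mem (mul_mem ⟨-x₀, rfl⟩ (hτ₁U u hu)) (inv_mem ⟨-x₀, rfl⟩)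
  have hτL : ∀ u ∈ (L : Subgroup PSL(2, F)), τ u ∈ L := fun u hu => by rw [hτ]; exact hx₀ u hu
  choose θ hθ using fun x : F => hτU (π (up x)) ⟨x, rfl⟩
  choose φ hφ using fun x : F => hτL (π (lo x)) ⟨x, rfl⟩
  replace hθ : ∀ x, π (up (θ x)) = τ (π (up x)) := hθ
  replace hφ : ∀ x, π (lo (φ x)) = τ (π (lo x)) := hφ
  have hθi : Function.Injective θ := fun x y e => π_up_inj (τ.injective (by rw [← hθ, ← hθ, e])) h2
  have hφi : Function.Injective φ := fun x y e => π_lo_inj (τ.injective (by rw [← hφ, ← hφ, e])) h2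
  have hθadd : ∀ x y, θ (x + y) = θ x + θ y := fun x y => π_up_inj (by
    simp only [hθ]; rw [← up_mul, map_mul, map_mul, ← hθ, ← hθ, ← map_mul, up_mul]) h2
  have hφadd : ∀ x y, φ (x + y) = φ x + φ y := fun x y => π_lo_inj (by
    simp only [hφ]; rw [← lo_mul, map_mul, map_mul, ← hφ, ← hφ, ← map_mul, lo_mul]) h2
  have hmemU : ∀ u : PSL(2, F), τ u ∈ U → u ∈ U := by
    intro u hu
    let r : ↥(U : Subgroup PSL(2, F)) → ↥(U : Subgroup PSL(2, F)) := fun u => ⟨τ u, hτU u u.2⟩
    obtain ⟨v, hv⟩ := Finite.injective_iff_surjective.1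
      (show Function.Injective r from fun a b e => Subtype.ext (τ.injective (congrArg Subtype.val e))) ⟨_, hu⟩
    exact (τ.injective (congrArg Subtype.val hv)) ▸ v.2
  have hmemL : ∀ u : PSL(2, F), τ u ∈ L → u ∈ L := by
    intro u hu
    let r : ↥(L : Subgroup PSL(2, F)) → ↥(L : Subgroup PSL(2, F)) := fun u => ⟨τ u, hτL u u.2⟩
    obtain ⟨v, hv⟩ := Finite.injective_iff_surjective.1
      (show Function.Injective r from fun a b e => Subtype.ext (τ.injective (congrArg Subtype.val e))) ⟨_, hu⟩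
    exact (τ.injective (congrArg Subtype.val hv)) ▸ v.2
  have hdiag : ∀ a : F, ∃ k : F, ∀ x, θ (a * a * x) = k * k * θ x ∧ (a ≠ 0 → φ (a⁻¹ * a⁻¹ * x) = k⁻¹ * k⁻¹ * φ x) := by
    intro a
    rcases eq_or_ne a 0 with rfl | ha
    · refine ⟨0, fun x => ⟨?_, fun h => absurd rfl h⟩⟩
      have := hθadd 0 0
      rw [add_zero] at this
      simp only [mul_zero, zero_mul]
      linear_combination -this
    set d := sl2 a 0 0 a⁻¹ (by field_simp; ring) with hdd
    obtain ⟨k, hk⟩ := π_surjective (τ (π d))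
    have hcu : ∀ x, τ (π d) * τ (π (up x)) * (τ (π d))⁻¹ = τ (π (up (a * a * x))) := fun x => by
      rw [← map_mul, ← map_inv, ← map_mul, ← map_mul, ← map_inv, ← map_mul, (diag_conj a x ha).1]
    have hcl : ∀ x, τ (π d) * τ (π (lo x)) * (τ (π d))⁻¹ = τ (π (lo (a⁻¹ * a⁻¹ * x))) := fun x => by
      rw [← map_mul, ← map_inv, ← map_mul, ← map_mul, ← map_inv, ← map_mul, (diag_conj a x ha).2]
    have h10 : k 1 0 = 0 := by
      obtain ⟨y, hy⟩ := Finite.injective_iff_surjective.1 hθi 1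
      refine eq_zero_of_normalizes_U ?_
      rw [hk, ← hy, hθ, hcu]
      exact hτU _ ⟨_, rfl⟩
    have h01 : k 0 1 = 0 := by
      obtain ⟨y, hy⟩ := Finite.injective_iff_surjective.1 hφi 1
      refine eq_zero_of_normalizes_L ?_
      rw [hk, ← hy, hφ, hcl]
      exact hτL _ ⟨_, rfl⟩
    have hd := sl2_det k
    rw [h10, h01, mul_zero, sub_zero] at hd
    have hk0 : k 0 0 ≠ 0 := left_ne_zero_of_mul_eq_one hd
    have hke : k = sl2 (k 0 0) 0 0 (k 0 0)⁻¹ (by field_simp; ring) := by
      apply sl2_ext <;> simp [h01, h10, eq_inv_of_mul_eq_one_right hd]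
    refine ⟨k 0 0, fun x => ⟨π_up_inj ?_ h2, fun _ => π_lo_inj ?_ h2⟩⟩
    · rw [hθ, ← hcu, ← hk, ← hθ, ← (diag_conj (k 0 0) _ hk0).1, ← hke, map_mul, map_mul, map_inv]
    · rw [hφ, ← hcl, ← hk, ← hφ, ← (diag_conj (k 0 0) _ hk0).2, ← hke, map_mul, map_mul, map_inv]
  choose kk hkk using hdiag
  obtain ⟨σ, hσ, he, hcσ⟩ := exists_ringEquiv h2 θ hθi hθadd (fun a => kk a * kk a) (fun a x => (hkk a x).1)
  set e := θ 1 with hedef
  have hφσ : ∀ x, φ x = φ 1 * σ x := by
    have hφ0 : φ 0 = 0 := by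
      have := hφadd 0 0
      rw [add_zero] at this
      linear_combination -this
    have hsq : ∀ a x, φ (a * a * x) = σ (a * a) * φ x := by
      intro a x
      rcases eq_or_ne a 0 with rfl | ha
      · simp [hφ0]
      have h := (hkk a⁻¹ x).2 (inv_ne_zero ha)
      rw [inv_inv] at h
      have hci : kk a⁻¹ * kk a⁻¹ = (σ (a * a))⁻¹ := by
        rw [hcσ, ← map_inv₀ σ, mul_inv]
      rw [h, ← mul_inv, hci, inv_inv]
    intro x
    obtain ⟨a, b, rfl⟩ := exists_sq_add_sq h2 x
    rw [hφadd, ← mul_one (a * a), ← mul_one (b * b), hsq, hsq, mul_one, mul_one, map_add]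
    ring
  have hφ1 : φ 1 = e⁻¹ := by
    have hrel : π (up e * lo (φ (-1)) * up e) * π (up e * lo (φ (-1)) * up e) = 1 := by
      have : π (up (1 : F) * lo (-1) * up 1) * π (up (1 : F) * lo (-1) * up 1) = 1 := by
        rw [← map_mul, π_eq_one_iff]
        refine Or.inr ?_
        apply sl2_ext <;> simp [up, lo, sl2_mul, sl2_neg] <;> ring
      have := congrArg τ this
      simp only [map_mul, map_one] at this ⊢
      rw [hφ, hedef, hθ]
      exact this
    rw [← map_mul, π_eq_one_iff] at hrel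
    have h10 : (up e * lo (φ (-1)) * up e * (up e * lo (φ (-1)) * up e)) 1 0 = 0 := by
      rcases hrel with h | h <;> rw [h] <;> simp [sl2_neg]
    simp [up, lo, sl2_mul] at h10
    have hneg : φ (-1) = - φ 1 := by rw [hφσ]; simp
    have hne : φ 1 ≠ 0 := by
      intro h
      have := hφσ (-1)
      rw [h, zero_mul] at this
      have h0 := hφσ 0
      rw [h, zero_mul] at h0
      exact one_ne_zero (neg_eq_zero.1 (hφi (this.trans h0.symm)))
    rw [hneg] at h10
    have : 2 * (φ 1 * (1 - e * φ 1)) = 0 := by linear_combination -h10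
    have h3 := (mul_eq_zero.1 ((mul_eq_zero.1 this).resolve_left h2)).resolve_left hne
    exact eq_inv_of_mul_eq_one_right (by linear_combination -h3)
  let D : M₂ := !![e, 0; 0, 1]
  let D' : M₂ := !![e⁻¹, 0; 0, 1]
  have hDD : D * D' = 1 ∧ D' * D = 1 := by
    constructor <;> ext i j <;> fin_cases i <;> fin_cases j <;> simp [D, D', he]
  let Ψ : SL(2, F) →* SL(2, F) :=
    { toFun := fun g => sl2 (σ (g 0 0)) (e * σ (g 0 1)) (e⁻¹ * σ (g 1 0)) (σ (g 1 1)) (by
        have := congrArg σ (sl2_det g)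
        simp only [map_sub, map_mul, map_one] at this
        field_simp
        linear_combination this)
      map_one' := by apply sl2_ext <;> simp
      map_mul' := fun g h => by
        apply sl2_ext <;> simp [sl2_mul, map_add, map_mul] <;> field_simp }
  have hΨ : ∀ g : SL(2, F), ((Ψ g : SL(2, F)) : M₂) = D * (g : M₂).map σ * D' := fun g => by
    ext i j
    simp only [Matrix.mul_apply, Fin.sum_univ_two, Matrix.map_apply]
    fin_cases i <;> fin_cases j <;> simp [Ψ, D, D'] <;>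
      (first | ring1 | (field_simp))
  have hτΨ : ∀ g, τ (π g) = π (Ψ g) := by
    have hext : τ.toMonoidHom.comp π = π.comp Ψ := by
      refine MonoidHom.eq_of_eqOn_top fun g _ => ?_
      refine Subgroup.closure_induction (p := fun k _ => (τ.toMonoidHom.comp π) k = (π.comp Ψ) k)
        ?_ (by simp only [map_one]) (fun a b _ _ ha hb => by rw [map_mul, map_mul, ha, hb])
        (fun a _ ha => by rw [map_inv, map_inv, ha]) (mem_closure_unitriangular g)
      rintro _ (⟨x, rfl⟩ | ⟨x, rfl⟩)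
      · show τ (π (up x)) = π (Ψ (up x))
        rw [← hθ, hσ]
        congr 1
        apply sl2_ext <;> simp [Ψ, up]
      · show τ (π (lo x)) = π (Ψ (lo x))
        rw [← hφ, hφσ, hφ1]
        congr 1
        apply sl2_ext <;> simp [Ψ, lo]
    exact fun g => DFunLike.congr_fun hext g
  set G₀ : SL(2, F) := g * up x₀ with hG₀
  have hcm : ∀ a b : SL(2, F), (((a * b : SL(2, F))) : M₂) = (a : M₂) * (b : M₂) := fun a b => rfl
  have hco : ((1 : SL(2, F)) : M₂) = 1 := rfl
  refine ⟨σ, (G₀ : M₂) * D, D' * ((G₀⁻¹ : SL(2, F)) : M₂), ?_, ?_, fun k h hk => ?_⟩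
  · rw [Matrix.mul_assoc, ← Matrix.mul_assoc D, hDD.1, Matrix.one_mul, ← hcm,
      mul_inv_cancel, hco]
  · rw [Matrix.mul_assoc, ← Matrix.mul_assoc ((G₀⁻¹ : SL(2, F)) : M₂), ← hcm,
      inv_mul_cancel, hco, Matrix.one_mul, hDD.2]
  have hb : β (π k) = π (G₀ * Ψ k * G₀⁻¹) := by
    rw [map_mul, map_mul, ← hτΨ, hτ, hτ₁, hG₀, map_mul, map_inv, map_mul, ← up_inv, map_inv]
    group
  have hm : ((G₀ * Ψ k * G₀⁻¹ : SL(2, F)) : M₂)
      = (G₀ : M₂) * D * (k : M₂).map σ * (D' * ((G₀⁻¹ : SL(2, F)) : M₂)) := by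
    rw [hcm, hcm, hΨ]
    simp only [Matrix.mul_assoc]
  rcases π_eq_iff.1 (hb.symm.trans hk) with h' | h'
  · left; rw [← hm, h']
  · right
    rw [← hm, h', SpecialLinearGroup.coe_neg, neg_neg]

end Cfsg.Agent.H77.PSL2Aut

namespace Cfsg.Agent.H77.PSL2Aut

open Cfsg.Agent.H6

variable {F : Type*} [Field F] [Fintype F]

local notation "M₂" => Matrix (Fin 2) (Fin 2) F

lemma coe_mul_M (a b : SL(2, F)) : (((a * b : SL(2, F))) : M₂) = (a : M₂) * (b : M₂) := rfl

lemma coe_neg_M (a : SL(2, F)) : ((-a : SL(2, F)) : M₂) = -(a : M₂) := by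
  ext i j; exact sl2_neg a i j

lemma trace_eq_tr (g : SL(2, F)) : (g : M₂).trace = tr g := by
  simp [Matrix.trace_fin_two, tr]

/-- Traceless `2 × 2` matrices anticommute up to a scalar. -/
lemma traceless_mul_add {A B : M₂} (hA : A.trace = 0) (hB : B.trace = 0) :
    A * B + B * A = (A * B).trace • (1 : M₂) := by
  rw [Matrix.trace_fin_two] at hA hB
  have hA' : A 1 1 = -A 0 0 := by linear_combination hA
  have hB' : B 1 1 = -B 0 0 := by linear_combination hB
  ext i j
  fin_cases i <;> fin_cases j <;>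
    simp [Matrix.mul_apply, Fin.sum_univ_two, Matrix.trace_fin_two, hA', hB'] <;> ring

/-- A matrix commuting with two anticommuting traceless units is scalar. -/
lemma exists_scalar_of_commute (h2 : (2 : F) ≠ 0) {M A B : M₂} (hA : A.trace = 0)
    (hA2 : A * A = -1) (hB2 : B * B = -1) (hAB : A * B = -(B * A))
    (hMA : M * A = A * M) (hMB : M * B = B * M) : ∃ c : F, M = c • (1 : M₂) := by
  set M0 : M₂ := M - (M.trace / 2) • (1 : M₂) with hM0
  have ht : M0.trace = 0 := by
    simp [hM0, Matrix.trace_fin_two]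
    field_simp
    ring
  have hA0 : M0 * A = A * M0 := by simp [hM0, sub_mul, mul_sub, hMA]
  have hB0 : M0 * B = B * M0 := by simp [hM0, sub_mul, mul_sub, hMB]
  have h := traceless_mul_add ht hA
  rw [← hA0, ← two_smul F] at h
  have hM0A : M0 * A = ((M0 * A).trace / 2) • (1 : M₂) := by
    have := congrArg (fun X => (2 : F)⁻¹ • X) h
    simp only [smul_smul, inv_mul_cancel₀ h2, one_smul] at this
    rwa [div_eq_mul_inv, mul_comm]
  set c := (M0 * A).trace / 2
  have hM0' : M0 = -(c • A) := by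
    have := congrArg (fun X => X * A) hM0A
    simp only [mul_assoc, hA2, smul_mul_assoc, one_mul] at this
    rw [← this]; simp
  have hc : c = 0 := by
    by_contra hc
    have h1 : A * B = B * A := by
      have := hB0
      rw [hM0', neg_mul, mul_neg, neg_inj, smul_mul_assoc, mul_smul_comm] at this
      exact smul_right_injective M₂ hc this
    have h3 : (2 : F) • (B * A) = 0 := by
      rw [two_smul]
      nth_rewrite 1 [← h1]
      rw [hAB, neg_add_cancel]
    have h4 : B * A = 0 := (smul_eq_zero.1 h3).resolve_left h2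
    have h5 : (B * B) * (A * A) = 0 := by
      rw [mul_assoc, ← mul_assoc B A A, h4, zero_mul, mul_zero]
    rw [hA2, hB2] at h5
    simp at h5
  refine ⟨M.trace / 2, ?_⟩
  rw [hc, zero_smul, neg_zero, hM0, sub_eq_zero] at hM0'
  exact hM0'

/-- For `q ≡ ±3 (mod 8)` an automorphism of order two fixing the normalizer of a four-group
pointwise is trivial. -/
theorem eq_one_of_fix_normalizer_four (h8 : Fintype.card F % 8 = 3 ∨ Fintype.card F % 8 = 5)
    {V : Subgroup PSL(2, F)} (hV : IsKleinFour V) (β : PSL(2, F) ≃* PSL(2, F))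
    (hβ2 : ∀ z, β (β z) = z) (hfix : ∀ y ∈ Subgroup.normalizer (V : Set PSL(2, F)), β y = y) :
    ∀ z, β z = z := by
  classical
  have h2 : (2 : F) ≠ 0 := two_ne_of_odd rfl (Nat.odd_iff.2 (by omega))
  obtain ⟨σ, M, M', hMM', hM'M, hM⟩ := exists_conj_field h2 β
  have hσσ : ∀ x, σ (σ x) = x := by
    have key : ∀ x, σ (σ x) = x ∨ σ (σ x) = -x := by
      intro x
      set g : SL(2, F) := sl2 x (-1) 1 0 (by ring) with hg
      have htg : (g : M₂).trace = x := by simp [hg, Matrix.trace_fin_two]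
      obtain ⟨h, hh⟩ := π_surjective (β (π g))
      have hback : β (π h) = π g := by rw [hh, hβ2]
      have t1 : (h : M₂).trace = σ x ∨ (h : M₂).trace = -σ x := by
        have hs : ((g : M₂).map σ).trace = σ x := by
          rw [← htg, Matrix.trace_fin_two, Matrix.trace_fin_two, map_add]; rfl
        rcases hM g h hh.symm with e | e <;> rw [e]
        · left; rw [Matrix.trace_mul_cycle, hM'M, one_mul, hs]
        · right; rw [Matrix.trace_neg, Matrix.trace_mul_cycle, hM'M, one_mul, hs]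
      have hs2 : ((h : M₂).map σ).trace = σ ((h : M₂).trace) := by
        rw [Matrix.trace_fin_two, Matrix.trace_fin_two, map_add]; rfl
      rcases hM h g hback with e | e
      · have := congrArg Matrix.trace e
        rw [htg, Matrix.trace_mul_cycle, hM'M, one_mul, hs2] at this
        rcases t1 with t | t <;> rw [t] at this
        · exact Or.inl this.symm
        · right; rw [map_neg] at this; linear_combination this
      · have := congrArg Matrix.trace e
        rw [htg, Matrix.trace_neg, Matrix.trace_mul_cycle, hM'M, one_mul, hs2] at this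
        rcases t1 with t | t <;> rw [t] at this
        · right; linear_combination this
        · left; rw [map_neg, neg_neg] at this; exact this.symm
    intro x
    rcases key x with h | h
    · exact h
    rcases key (x + 1) with h' | h'
    · rw [map_add, map_add, map_one, map_one] at h'; linear_combination h'
    · rw [map_add, map_add, map_one, map_one, h] at h'
      exact absurd (show (2 : F) = 0 by linear_combination h') h2
  have hσ : σ = RingEquiv.refl F := by
    haveI : Finite (RingAut F) := Finite.of_injective _ DFunLike.coe_injective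
    by_contra hne
    have hne' : σ ≠ (1 : RingAut F) := hne
    have ho : orderOf (σ : RingAut F) = 2 := orderOf_eq_prime (by ext x; exact hσσ x) hne'
    obtain ⟨p, hchar⟩ := CharP.exists F
    obtain ⟨f, hp, hF⟩ := FiniteField.card F p
    have hdvd : 2 ∣ (f : ℕ) := by
      haveI : Fact p.Prime := ⟨hp⟩
      let K := H67.autFixedField (σ : F ≃+* F)
      haveI : Fintype K := Fintype.ofFinite _
      let G : Subgroup (RingAut F) := Subgroup.zpowers σ
      haveI : Fintype G := Fintype.ofFinite G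
      haveI : FaithfulSMul G F := ⟨fun {a b} h => Subtype.ext (RingEquiv.ext h)⟩
      have hr : Module.finrank (FixedPoints.subfield G F) F = 2 := by
        rw [FixedPoints.finrank_eq_card, ← Nat.card_eq_fintype_card, Nat.card_zpowers, ho]
      have hc := Module.natCard_eq_pow_finrank (K := FixedPoints.subfield G F) (V := F)
      rw [hr, Nat.card_eq_fintype_card, hF] at hc
      obtain ⟨e, -, he⟩ := (Nat.dvd_prime_pow hp).1 (show Nat.card (FixedPoints.subfield G F) ∣ p ^ (f : ℕ) from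
        hc ▸ dvd_pow_self _ two_ne_zero)
      rw [he, ← pow_mul] at hc
      exact ⟨e, by rw [Nat.pow_right_injective hp.two_le hc, mul_comm]⟩
    obtain ⟨e, he⟩ := hdvd
    have : Fintype.card F % 8 = ((p ^ e % 8) * (p ^ e % 8)) % 8 := by
      rw [hF, he, mul_comm 2 e, pow_mul, sq, Nat.mul_mod]
    have hlt : p ^ e % 8 < 8 := Nat.mod_lt _ (by norm_num)
    interval_cases hh : p ^ e % 8 <;> omega
  subst hσ
  have hM1 : ∀ g h : SL(2, F), β (π g) = π h → (h : M₂) * M = M * g ∨ (h : M₂) * M = -(M * g) := by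
    intro g h hgh
    rcases hM g h hgh with e | e <;>
      simp only [RingEquiv.coe_refl, Matrix.map_id] at e <;> rw [e]
    · left; rw [mul_assoc, hM'M, mul_one]
    · right; rw [neg_mul, mul_assoc, hM'M, mul_one]
  have hcomm : ∀ g : SL(2, F), π g ∈ Subgroup.normalizer (V : Set PSL(2, F)) →
      ∃ s : F, (s = 1 ∨ s = -1) ∧ M * (g : M₂) = s • ((g : M₂) * M) := by
    intro g hg
    rcases hM1 g g (hfix _ hg) with e | e
    · exact ⟨1, Or.inl rfl, by rw [one_smul, e]⟩
    · exact ⟨-1, Or.inr rfl, by rw [neg_one_smul, e, neg_neg]⟩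
  obtain ⟨a, ha, ha1⟩ := (Subgroup.nontrivial_iff_exists_ne_one V).1
    (Finite.one_lt_card_iff_nontrivial.1 (by rw [hV.card_four]; norm_num))
  obtain ⟨b, hb, hb1, hba⟩ := H29.exists_mem_ne_ne (A := V) (by rw [hV.card_four]; norm_num) a
  have hinv : ∀ v ∈ V, v * v = 1 := fun v hv => by
    have h := congrArg Subtype.val (IsKleinFour.mul_self (⟨v, hv⟩ : V))
    simpa using h
  have hab : a * b = b * a := by
    have h := congrArg (fun z : PSL(2, F) => a * z * b) (hinv _ (mul_mem ha hb))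
    simpa [mul_assoc, hinv a ha, hinv b hb, ← mul_assoc a a] using h.symm
  obtain ⟨A, rfl⟩ := π_surjective a
  obtain ⟨B, rfl⟩ := π_surjective b
  have hlift : ∀ g : SL(2, F), π g ∈ V → π g ≠ 1 → (g : M₂).trace = 0 ∧ (g : M₂) * g = -1 := by
    intro g hg hg1
    have ht : tr g = 0 := (orderOf_π_eq_two_iff h2).1 (orderOf_eq_prime (by rw [sq]; exact hinv _ hg) hg1)
    refine ⟨by rw [trace_eq_tr, ht], ?_⟩
    have := congrArg (fun z : SL(2, F) => (z : M₂)) ((sq_neg_one_iff h2).2 ht)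
    rw [coe_mul_M, coe_neg_M] at this
    exact this
  obtain ⟨htA, hA2⟩ := hlift A ha ha1
  obtain ⟨htB, hB2⟩ := hlift B hb hb1
  have hAB : (A : M₂) * B = -((B : M₂) * A) := by
    rcases π_eq_iff.1 (show π (A * B) = π (B * A) by rw [map_mul, map_mul, hab]) with e | e
    · exfalso
      have htA' : tr A = 0 := (trace_eq_tr A).symm.trans htA
      have htB' : tr B = 0 := (trace_eq_tr B).symm.trans htB
      have hmem : π B ∈ tor A := mem_tor.2 (Subgroup.mem_centralizer_singleton_iff.2 e.symm)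
      exact hba (eq_of_involution_mem_tor h2 htA' hmem ((orderOf_π_eq_two_iff h2).2 htB'))
    · have := congrArg (fun z : SL(2, F) => (z : M₂)) e
      simpa [coe_mul_M, coe_neg_M] using this
  obtain ⟨z₁, hz₁, hz₁a⟩ := normalizer_four_transitive h2 rfl hV ha hb ha1 hb1
  have hab1 : π A * π B ≠ 1 := fun e => hba (by
    have := eq_inv_of_mul_eq_one_left e
    rw [this, inv_eq_of_mul_eq_one_right (hinv _ hb)])
  obtain ⟨z₂, hz₂, hz₂a⟩ := normalizer_four_transitive h2 rfl hV ha (mul_mem ha hb) ha1 hab1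
  obtain ⟨Z₁, rfl⟩ := π_surjective z₁
  obtain ⟨Z₂, rfl⟩ := π_surjective z₂
  have hVN : V ≤ Subgroup.normalizer (V : Set PSL(2, F)) := Subgroup.le_normalizer
  obtain ⟨sA, hsA, eA⟩ := hcomm A (hVN ha)
  obtain ⟨sB, hsB, eB⟩ := hcomm B (hVN hb)
  have hM0 : ∀ g : SL(2, F), (g : M₂) * M ≠ 0 := by
    intro g h0
    have h1 : ((g⁻¹ : SL(2, F)) : M₂) * ((g : M₂) * M) * M' = 1 := by
      rw [← mul_assoc, ← coe_mul_M, inv_mul_cancel, mul_assoc]
      show (1 : M₂) * (M * M') = 1
      rw [hMM', one_mul]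
    rw [h0, mul_zero, zero_mul] at h1
    exact zero_ne_one h1
  have hstep : ∀ (Z W : SL(2, F)), π Z ∈ Subgroup.normalizer (V : Set PSL(2, F)) →
      π Z * π A * (π Z)⁻¹ = π W → ∀ sW : F, M * (W : M₂) = sW • ((W : M₂) * M) → sW = sA := by
    intro Z W hZ e sW eW
    obtain ⟨sZ, hsZ, eZ⟩ := hcomm Z hZ
    obtain ⟨ε, hε, hZA⟩ : ∃ ε : F, ε ≠ 0 ∧ (Z : M₂) * A = ε • ((W : M₂) * Z) := by
      rw [mul_inv_eq_iff_eq_mul, ← map_mul, ← map_mul] at e
      rcases π_eq_iff.1 e with e' | e' <;> have := congrArg (fun z : SL(2, F) => (z : M₂)) e'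
      · exact ⟨1, one_ne_zero, by simpa [coe_mul_M] using this⟩
      · exact ⟨-1, neg_ne_zero.2 one_ne_zero, by simpa [coe_mul_M, coe_neg_M] using this⟩
    have h1 : M * ((Z : M₂) * A) = (sZ * sA) • ((Z : M₂) * A * M) := by
      rw [← mul_assoc, eZ, smul_mul_assoc, mul_assoc, eA, mul_smul_comm, smul_smul, mul_assoc]
    have h2' : M * ((Z : M₂) * A) = (sW * sZ) • ((Z : M₂) * A * M) := by
      rw [hZA, mul_smul_comm, ← mul_assoc, eW, smul_mul_assoc, mul_assoc, eZ, mul_smul_comm, smul_smul,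
        smul_mul_assoc, smul_smul, smul_smul, mul_assoc (W : M₂)]
      congr 1
      ring
    rw [h2'] at h1
    have h3 := smul_left_injective F (show (Z : M₂) * A * M ≠ 0 by
      rw [← coe_mul_M]; exact hM0 _) h1
    have hsZ0 : sZ ≠ 0 := by rcases hsZ with rfl | rfl <;> simp
    exact mul_left_cancel₀ hsZ0 (by linear_combination h3)
  have e1 : sB = sA := hstep Z₁ B hz₁ hz₁a sB eB
  have eAB : M * (((A * B : SL(2, F))) : M₂) = (sA * sB) • ((((A * B : SL(2, F))) : M₂) * M) := by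
    rw [coe_mul_M, ← mul_assoc, eA, smul_mul_assoc, mul_assoc, eB, mul_smul_comm, smul_smul, mul_assoc]
  have e2 : sA * sB = sA := hstep Z₂ (A * B) hz₂ (by rw [hz₂a, map_mul]) _ eAB
  have hs1 : sB = 1 := by
    rcases hsA with rfl | rfl
    · exact e1
    · rw [e1] at e2
      norm_num at e2
      exact absurd (show (2 : F) = 0 by linear_combination e2) h2
  rw [← e1, hs1, one_smul] at eA
  rw [hs1, one_smul] at eB
  obtain ⟨c, hc⟩ := exists_scalar_of_commute h2 htA hA2 hB2 hAB eA eB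
  have hc0 : c ≠ 0 := by
    rintro rfl
    rw [hc, zero_smul, zero_mul] at hMM'
    exact zero_ne_one hMM'
  intro z
  obtain ⟨g, rfl⟩ := π_surjective z
  obtain ⟨h, hh⟩ := π_surjective (β (π g))
  rw [← hh, π_eq_iff]
  rcases hM1 g h hh.symm with e | e <;> rw [hc, smul_mul_assoc, mul_smul_comm, one_mul, mul_one] at e
  · left
    exact Subtype.ext (smul_right_injective M₂ hc0 e)
  · right
    rw [← smul_neg] at e
    apply Subtype.ext
    rw [coe_neg_M]
    exact smul_right_injective M₂ hc0 e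

end Cfsg.Agent.H77.PSL2Aut
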