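import Mathlib
import Cfsg.Agent.H6.SmallOrder

/-!
# Groups with an involution centraliser `2 × S₄` and a self-centralising commutator involution
-/

set_option autoImplicit false

namespace Cfsg.Agent.H77.TwoSymFour

open Equiv Subgroup
open scoped commutatorElement

/-- The cyclic group of order two. -/
abbrev Z2 := Multiplicative (ZMod 2)

/-- The non-trivial element. -/
def u0 : Z2 := Multiplicative.ofAdd 1

/-- Central involution of the Sylow subgroup. -/
def c0 : Perm (Fin 4) := swap 0 2 * swap 1 3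

/-- A double transposition. -/
def a0 : Perm (Fin 4) := swap 0 1 * swap 2 3

/-- The third double transposition. -/
def d0 : Perm (Fin 4) := swap 0 3 * swap 1 2

/-- A transposition. -/
def b0 : Perm (Fin 4) := swap 1 3

/-- A four cycle. -/
def r0 : Perm (Fin 4) := swap 0 1 * swap 1 2 * swap 2 3

/-- The subgroup of order eight. -/
def D0 : Subgroup (Perm (Fin 4)) := centralizer {c0}

theorem mem_D0 {σ : Perm (Fin 4)} : σ ∈ D0 ↔ σ * c0 = c0 * σ :=
  mem_centralizer_singleton_iff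

instance : DecidablePred (· ∈ D0) := fun _ => decidable_of_iff _ mem_D0.symm

/-- The four-group. -/
def InV (σ : Perm (Fin 4)) : Prop := σ = 1 ∨ σ = c0 ∨ σ = a0 ∨ σ = d0

instance : DecidablePred InV := fun σ => inferInstanceAs (Decidable (σ = 1 ∨ σ = c0 ∨ σ = a0 ∨ σ = d0))

theorem card_D0 : Nat.card D0 = 8 := by
  rw [Nat.card_eq_fintype_card, Fintype.card_subtype]
  decide +kernel

theorem pow_four_D0 : ∀ σ : Perm (Fin 4), σ ∈ D0 → σ ^ 4 = 1 := by decide +kernel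

theorem comm_D0 : ∀ σ : Perm (Fin 4), σ ∈ D0 → ∀ τ : Perm (Fin 4), τ ∈ D0 →
    σ * τ * σ⁻¹ * τ⁻¹ = 1 ∨ σ * τ * σ⁻¹ * τ⁻¹ = c0 := by decide +kernel

theorem c0_commutator : ∃ σ ∈ D0, ∃ τ ∈ D0, σ * τ * σ⁻¹ * τ⁻¹ = c0 := by decide +kernel

theorem conj_V : ∀ v : Perm (Fin 4), InV v → v ≠ 1 → ∃ τ : Perm (Fin 4), τ * v * τ⁻¹ = c0 := by
  decide +kernel

theorem inV_of_conj_mem : ∀ σ : Perm (Fin 4), (∀ τ : Perm (Fin 4), τ * σ * τ⁻¹ ∈ D0) → InV σ := by
  decide +kernel

theorem inV_mem_D0 : ∀ v : Perm (Fin 4), InV v → v ∈ D0 := by decide +kernel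

theorem inV_comm : ∀ v : Perm (Fin 4), InV v → ∀ w : Perm (Fin 4), InV w → v * w = w * v := by
  decide +kernel

theorem inV_conj_ne : ∀ v : Perm (Fin 4), InV v → v ≠ 1 →
    ∃ τ : Perm (Fin 4), InV (τ * v * τ⁻¹ * v) ∧ τ * v * τ⁻¹ * v ≠ 1 := by decide +kernel

theorem D0_invol : ∀ σ : Perm (Fin 4), σ ∈ D0 → σ * σ = 1 → σ ≠ 1 →
    InV σ ∨ ∃ τ : Perm (Fin 4), τ * b0 * τ⁻¹ = σ := by decide +kernel

theorem center_pair : ∀ x : Z2 × Perm (Fin 4), (∀ y : Z2 × Perm (Fin 4), x * y = y * x) →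
    x = 1 ∨ x = (u0, 1) := by decide +kernel

theorem z2_cases : ∀ z : Z2, z = 1 ∨ z = u0 := by decide

theorem u0_sq : u0 * u0 = 1 := by decide

theorem z2_sq : ∀ z : Z2, z ^ 4 = 1 := by decide

/-- The configuration. -/
structure Data (G : Type*) [Group G] where
  /-- the embedding of the centraliser of `t` -/
  E : Z2 × Perm (Fin 4) →* G
  inj : Function.Injective E
  cent : ∀ g : G, g * E (u0, 1) = E (u0, 1) * g → ∃ x, E x = g
  cent2 : ∀ g : G, g * E (1, c0) = E (1, c0) * g → ∃ x, x.2 ∈ D0 ∧ E x = g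
  syl : ¬ 2 ∣ (((⊤ : Subgroup Z2).prod D0).map E).index

namespace Data

variable {G : Type*} [Group G] (d : Data G)

/-- The involution `t`. -/
def t : G := d.E (u0, 1)

/-- The commutator involution. -/
def c : G := d.E (1, c0)

theorem ne_one {x : Z2 × Perm (Fin 4)} (hx : x ≠ 1) : d.E x ≠ 1 := fun h =>
  hx (d.inj (h.trans (map_one d.E).symm))

theorem order_t : orderOf d.t = 2 := by
  refine orderOf_eq_prime ?_ (d.ne_one (by decide))
  rw [t, ← map_pow, show ((u0, 1) : Z2 × Perm (Fin 4)) ^ 2 = 1 from by decide, map_one]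

theorem order_c : orderOf d.c = 2 := by
  refine orderOf_eq_prime ?_ (d.ne_one (by decide))
  rw [c, ← map_pow, show ((1, c0) : Z2 × Perm (Fin 4)) ^ 2 = 1 from by decide, map_one]

theorem pow_four_of_comm {g : G} (h : g * d.c = d.c * g) : g ^ 4 = 1 := by
  obtain ⟨⟨z, σ⟩, hσ, rfl⟩ := d.cent2 g h
  rw [← map_pow, Prod.pow_mk, z2_sq, pow_four_D0 σ hσ]
  exact map_one d.E

theorem isConj_E {x y : Z2 × Perm (Fin 4)} (h : IsConj x y) : IsConj (d.E x) (d.E y) := d.E.map_isConj h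

theorem isConj_V {v : Perm (Fin 4)} (hv : InV v) (hv1 : v ≠ 1) (z : Z2) :
    IsConj (d.E (z, v)) (d.E (z, c0)) := by
  obtain ⟨τ, hτ⟩ := conj_V v hv hv1
  exact d.isConj_E (isConj_iff.2 ⟨(1, τ), by simp [hτ]⟩)

theorem eq_one_of_comm_V {v : Perm (Fin 4)} (hv : InV v) (hv1 : v ≠ 1) {g : G}
    (hg : Odd (orderOf g)) (h : g * d.E (1, v) = d.E (1, v) * g) : g = 1 := by
  obtain ⟨k, hk⟩ := isConj_iff.1 (d.isConj_V hv hv1 1)
  have h' : k * g * k⁻¹ * d.c = d.c * (k * g * k⁻¹) := by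
    rw [c, ← hk]
    calc k * g * k⁻¹ * (k * d.E (1, v) * k⁻¹) = k * (g * d.E (1, v)) * k⁻¹ := by group
      _ = k * (d.E (1, v) * g) * k⁻¹ := by rw [h]
      _ = _ := by group
  have h4 : g ^ 4 = 1 := by simpa using d.pow_four_of_comm h'
  rcases Nat.Coprime.eq_one_of_dvd (show Nat.Coprime (orderOf g) 4 from
    (Nat.Coprime.pow_right 2 (Nat.coprime_two_right.2 hg))) (orderOf_dvd_of_pow_eq_one h4) with e
  exact orderOf_eq_one_iff.1 e

/-- An element inverted: fixed-point-free involutory action on a group of odd order. -/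
theorem inverted [Finite G] (N : Subgroup G) (hN : Odd (Nat.card N)) (w : G) (hw : w * w = 1)
    (hn : ∀ x ∈ N, w * x * w⁻¹ ∈ N) (hfix : ∀ x ∈ N, x * w = w * x → x = 1) :
    ∀ x ∈ N, w * x * w⁻¹ = x⁻¹ := by
  have hwi : w⁻¹ = w := inv_eq_of_mul_eq_one_right hw
  let φ : N →* N := MonoidHom.mk' (fun x => ⟨w * x * w⁻¹, hn x x.2⟩) fun a b => Subtype.ext (by simp)
  have hinv : Function.Involutive φ := fun x => Subtype.ext (by
    show w * (w * (x : G) * w⁻¹) * w⁻¹ = x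
    rw [hwi]
    calc w * (w * (x : G) * w) * w = (w * w) * (x : G) * (w * w) := by group
      _ = x := by rw [hw, one_mul, mul_one])
  have hfp : MonoidHom.FixedPointFree φ := fun x hx => Subtype.ext (hfix x x.2 (by
    have h : w * (x : G) * w⁻¹ = x := congrArg Subtype.val hx
    exact (mul_inv_eq_iff_eq_mul.1 h).symm))
  intro x hx
  exact congrArg Subtype.val (congrFun (hfp.coe_eq_inv_of_involutive hinv) ⟨x, hx⟩)

/-- A subgroup of odd order normalised by the four-group is trivial. -/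
theorem eq_bot_of_odd [Finite G] (N : Subgroup G) (hN : Odd (Nat.card N))
    (hn : ∀ v : Perm (Fin 4), InV v → ∀ x ∈ N, d.E (1, v) * x * (d.E (1, v))⁻¹ ∈ N) : N = ⊥ := by
  have hord : ∀ x ∈ N, Odd (orderOf x) := fun x hx =>
    Odd.of_dvd_nat hN (N.orderOf_dvd_natCard hx)
  have hv2 : ∀ v : Perm (Fin 4), InV v → d.E (1, v) * d.E (1, v) = 1 := by
    intro v hv
    rw [← map_mul, show ((1, v) : Z2 × Perm (Fin 4)) * (1, v) = 1 from by
      rcases hv with rfl | rfl | rfl | rfl <;> decide, map_one]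
  have hinv : ∀ v : Perm (Fin 4), InV v → v ≠ 1 → ∀ x ∈ N,
      d.E (1, v) * x * (d.E (1, v))⁻¹ = x⁻¹ := fun v hv hv1 =>
    inverted N hN _ (hv2 v hv) (hn v hv) fun x hx hc => d.eq_one_of_comm_V hv hv1 (hord x hx) hc
  rw [eq_bot_iff]
  intro x hx
  rw [Subgroup.mem_bot]
  refine d.eq_one_of_comm_V (v := c0) (Or.inr (Or.inl rfl)) (by decide) (hord x hx) ?_
  have e : ((1, c0) : Z2 × Perm (Fin 4)) = (1, a0) * (1, d0) := by decide
  rw [e, map_mul]
  have h1 := hinv d0 (by decide) (by decide) x hx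
  have h2 := hinv a0 (by decide) (by decide) x⁻¹ (inv_mem hx)
  rw [inv_inv, ← h1] at h2
  calc x * (d.E (1, a0) * d.E (1, d0))
      = (d.E (1, a0) * (d.E (1, d0) * x * (d.E (1, d0))⁻¹) * (d.E (1, a0))⁻¹) *
          (d.E (1, a0) * d.E (1, d0)) := by rw [h2]
    _ = d.E (1, a0) * d.E (1, d0) * x := by group

/-- The Sylow subgroup. -/
def T0 : Subgroup G := ((⊤ : Subgroup Z2).prod D0).map d.E

theorem card_T0 : Nat.card d.T0 = 16 := by
  rw [T0, ← Nat.card_congr (equivMapOfInjective _ d.E d.inj).toEquiv,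
    Nat.card_congr (prodEquiv _ _).toEquiv, Nat.card_prod, card_D0, Subgroup.card_top]
  simp

theorem mem_T0 {g : G} : g ∈ d.T0 ↔ ∃ x, x.2 ∈ D0 ∧ d.E x = g := by
  constructor
  · rintro ⟨x, hx, rfl⟩
    exact ⟨x, hx.2, rfl⟩
  · rintro ⟨x, hx, rfl⟩
    exact ⟨x, ⟨Subgroup.mem_top _, hx⟩, rfl⟩

theorem comm_c {x : Z2 × Perm (Fin 4)} (hx : x.2 ∈ D0) : d.E x * d.c = d.c * d.E x := by
  rw [c, ← map_mul, ← map_mul]
  congr 1
  exact Prod.ext (mul_comm _ _) (mem_D0.1 hx)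

/-- The Sylow subgroup as a Sylow. -/
noncomputable def sylow [Finite G] : Sylow 2 G :=
  haveI : Fact (Nat.Prime 2) := ⟨Nat.prime_two⟩
  (IsPGroup.of_card (n := 4) (by rw [d.card_T0]; rfl) : IsPGroup 2 d.T0).toSylow d.syl

theorem coe_sylow [Finite G] : ((d.sylow : Sylow 2 G) : Subgroup G) = d.T0 := rfl

theorem normalizer_T0_le : normalizer (d.T0 : Set G) ≤ d.T0 := by
  intro n hn
  obtain ⟨σ, hσ, τ, hτ, he⟩ := c0_commutator
  have hmem : ∀ ρ ∈ D0, n * d.E (1, ρ) * n⁻¹ ∈ d.T0 := fun ρ hρ =>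
    (mem_normalizer_iff.1 hn _).1 (d.mem_T0.2 ⟨_, hρ, rfl⟩)
  obtain ⟨x, hx, ex⟩ := d.mem_T0.1 (hmem σ hσ)
  obtain ⟨y, hy, ey⟩ := d.mem_T0.1 (hmem τ hτ)
  have key : n * d.c * n⁻¹ = d.E (x * y * x⁻¹ * y⁻¹) := by
    rw [map_mul, map_mul, map_mul, map_inv, map_inv, ex, ey, c,
      show ((1, c0) : Z2 × Perm (Fin 4)) = (1, σ) * (1, τ) * (1, σ)⁻¹ * (1, τ)⁻¹ by simp [he],
      map_mul, map_mul, map_mul, map_inv, map_inv]
    group
  have hfst : (x * y * x⁻¹ * y⁻¹).1 = 1 := by simp [mul_comm x.1 y.1]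
  rcases comm_D0 _ hx _ hy with h | h
  · exfalso
    have : n * d.c * n⁻¹ = 1 := by
      rw [key, show x * y * x⁻¹ * y⁻¹ = (1 : Z2 × Perm (Fin 4)) from Prod.ext hfst h, map_one]
    rw [conj_eq_one_iff] at this
    simpa [this] using d.order_c
  · have : n * d.c * n⁻¹ = d.c := by
      rw [key, show x * y * x⁻¹ * y⁻¹ = ((1, c0) : Z2 × Perm (Fin 4)) from Prod.ext hfst h]; rfl
    exact d.mem_T0.2 (d.cent2 n (mul_inv_eq_iff_eq_mul.1 this))

theorem central_fusion [Finite G] {x y : Z2 × Perm (Fin 4)} (hx : ∀ z : Z2 × Perm (Fin 4), z.2 ∈ D0 → z * x = x * z)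
    (hy : ∀ z : Z2 × Perm (Fin 4), z.2 ∈ D0 → z * y = y * z) (h : IsConj (d.E x) (d.E y)) : x = y := by
  haveI : Fact (Nat.Prime 2) := ⟨Nat.prime_two⟩
  obtain ⟨g, hg⟩ := isConj_iff.1 h
  have hmem : ∀ w : Z2 × Perm (Fin 4), (∀ z : Z2 × Perm (Fin 4), z.2 ∈ D0 → z * w = w * z) →
      d.E w ∈ centralizer ((d.sylow : Subgroup G) : Set G) := by
    intro w hw
    rw [mem_centralizer_iff]
    intro a ha
    obtain ⟨z, hz, rfl⟩ := d.mem_T0.1 ha
    rw [← map_mul, ← map_mul, hw z hz]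
  obtain ⟨n, hn, hne⟩ := (d.sylow).conj_eq_normalizer_conj_of_mem_centralizer (d.E x) g⁻¹
    (hmem x hx) (by rw [inv_inv, hg]; exact hmem y hy)
  have hn' : n ∈ normalizer (d.T0 : Set G) := hn
  obtain ⟨z, hz, rfl⟩ := d.mem_T0.1 (d.normalizer_T0_le hn')
  rw [inv_inv, hg, ← map_inv, ← map_mul, ← map_mul] at hne
  have := d.inj hne
  rw [this, mul_assoc, ← hx z hz, inv_mul_cancel_left]

theorem not_conj_t_c [Finite G] : ¬ IsConj d.t d.c := fun h => by
  have := d.central_fusion (x := (u0, 1)) (y := (1, c0)) (fun z _ => Prod.ext (mul_comm _ _) (by simp))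
    (fun z hz => Prod.ext (mul_comm _ _) (mem_D0.1 hz)) h
  exact absurd this (by decide)

theorem not_conj_t_tc [Finite G] : ¬ IsConj d.t (d.E (u0, c0)) := fun h => by
  have := d.central_fusion (x := (u0, 1)) (y := (u0, c0)) (fun z _ => Prod.ext (mul_comm _ _) (by simp))
    (fun z hz => Prod.ext (mul_comm _ _) (mem_D0.1 hz)) h
  exact absurd this (by decide)

theorem not_conj_tc_c [Finite G] : ¬ IsConj (d.E (u0, c0)) d.c := fun h => by
  have := d.central_fusion (x := (u0, c0)) (y := (1, c0))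
    (fun z hz => Prod.ext (mul_comm _ _) (mem_D0.1 hz))
    (fun z hz => Prod.ext (mul_comm _ _) (mem_D0.1 hz)) h
  exact absurd this (by decide)

/-- Membership in the elementary subgroup of order eight. -/
def InU (g : G) : Prop := ∃ (z : Z2) (v : Perm (Fin 4)), InV v ∧ d.E (z, v) = g

theorem inU_comm {g h : G} (hg : d.InU g) (hh : d.InU h) : g * h = h * g := by
  obtain ⟨z, v, hv, rfl⟩ := hg
  obtain ⟨z', v', hv', rfl⟩ := hh
  rw [← map_mul, ← map_mul]
  exact congrArg d.E (Prod.ext (mul_comm _ _) (inV_comm v hv v' hv'))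

theorem inU_of_normal [Finite G] (A : Subgroup G) [A.Normal] (hA : IsPGroup 2 A) {g : G}
    (hg : g ∈ A) : d.InU g := by
  haveI : Fact (Nat.Prime 2) := ⟨Nat.prime_two⟩
  obtain ⟨P, hP⟩ := hA.exists_le_sylow
  have hle : A ≤ d.T0 := by
    obtain ⟨k, hk⟩ := MulAction.exists_smul_eq G P d.sylow
    intro a ha
    rw [← d.coe_sylow, ← hk, Sylow.coe_subgroup_smul, Subgroup.mem_pointwise_smul_iff_inv_smul_mem]
    refine hP ?_
    rw [← map_inv]
    show k⁻¹ * a * k⁻¹⁻¹ ∈ A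
    exact ‹A.Normal›.conj_mem a ha _
  obtain ⟨⟨z, σ⟩, -, rfl⟩ := d.mem_T0.1 (hle hg)
  refine ⟨z, σ, inV_of_conj_mem σ fun τ => ?_, rfl⟩
  obtain ⟨x, hx, e⟩ := d.mem_T0.1 (hle (‹A.Normal›.conj_mem _ hg (d.E (1, τ))))
  rw [← map_inv, ← map_mul, ← map_mul] at e
  have h2 := congrArg Prod.snd (d.inj e)
  simp only [Prod.snd_mul, Prod.snd_inv] at h2
  rwa [h2] at hx

/-- A non-trivial normal abelian subgroup forces `t` to be central. -/
theorem t_central_of_normal [Finite G] (A : Subgroup G) [A.Normal] (hA1 : A ≠ ⊥)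
    (hab : ∀ a ∈ A, ∀ b ∈ A, a * b = b * a) : ∀ g : G, g * d.t = d.t * g := by
  haveI : Fact (Nat.Prime 2) := ⟨Nat.prime_two⟩
  -- the odd part is trivial
  let O : Subgroup G :=
    { carrier := {a | a ∈ A ∧ Odd (orderOf a)}
      one_mem' := ⟨one_mem A, by simp⟩
      mul_mem' := fun {a b} ha hb => ⟨mul_mem ha.1 hb.1, Odd.of_dvd_nat
        (ha.2.mul hb.2) ((Commute.orderOf_mul_dvd_mul_orderOf (hab a ha.1 b hb.1)))⟩
      inv_mem' := fun {a} ha => ⟨inv_mem ha.1, by rw [orderOf_inv]; exact ha.2⟩ }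
  have hOodd : Odd (Nat.card O) := by
    rw [← Nat.not_even_iff_odd, even_iff_two_dvd]
    intro h
    obtain ⟨a, ha⟩ := exists_prime_orderOf_dvd_card' 2 h
    have h2 := a.2.2
    rw [Subgroup.orderOf_coe, ha] at h2
    exact (by decide : ¬ Odd 2) h2
  have hO : O = ⊥ := d.eq_bot_of_odd O hOodd fun v _ x hx => ⟨‹A.Normal›.conj_mem x hx.1 _, by
    rw [show d.E (1, v) * x * (d.E (1, v))⁻¹ = MulAut.conj (d.E (1, v)) x from rfl,
      MulEquiv.orderOf_eq]
    exact hx.2⟩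
  have h2A : IsPGroup 2 A := fun a => by
    obtain ⟨k, m, hm, hkm⟩ := Nat.exists_eq_two_pow_mul_odd (orderOf_pos (a : G)).ne'
    refine ⟨k, Subtype.ext ?_⟩
    have : (a : G) ^ 2 ^ k ∈ O := ⟨pow_mem a.2 _, by
      rw [orderOf_pow' _ (pow_ne_zero _ two_ne_zero), hkm, Nat.gcd_eq_right (dvd_mul_right _ _),
        Nat.mul_div_cancel_left _ (by positivity)]
      exact hm⟩
    rw [hO, Subgroup.mem_bot] at this
    simpa using this
  have hU : ∀ a ∈ A, d.InU a := fun a ha => d.inU_of_normal A h2A ha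
  by_cases hcA : d.c ∈ A
  · have hCle : ∀ g ∈ centralizer (A : Set G), g * d.c = d.c * g := fun g hg =>
      (mem_centralizer_iff.1 hg _ hcA).symm
    have hC2 : IsPGroup 2 (centralizer (A : Set G)) := fun g =>
      ⟨2, Subtype.ext (by simpa using d.pow_four_of_comm (hCle g g.2))⟩
    intro g
    have ht : d.t ∈ centralizer (A : Set G) := mem_centralizer_iff.2 fun a ha =>
      d.inU_comm (hU a ha) ⟨u0, 1, Or.inl rfl, rfl⟩
    obtain ⟨z, v, hv, he⟩ := d.inU_of_normal _ hC2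
      ((inferInstance : (centralizer (A : Set G)).Normal).conj_mem _ ht g)
    have hconj : IsConj d.t (d.E (z, v)) := isConj_iff.2 ⟨g, he.symm⟩
    by_cases hv1 : v = 1
    · subst hv1
      rcases z2_cases z with rfl | rfl
      · exfalso
        rw [show ((1, 1) : Z2 × Perm (Fin 4)) = 1 from rfl, map_one] at he
        have := (conj_eq_one_iff).1 he.symm
        simpa [this] using d.order_t
      · exact mul_inv_eq_iff_eq_mul.1 he.symm
    · exfalso
      rcases z2_cases z with rfl | rfl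
      · exact d.not_conj_t_c (hconj.trans (d.isConj_V hv hv1 1))
      · exact d.not_conj_t_tc (hconj.trans (d.isConj_V hv hv1 u0))
  · -- otherwise `A` is generated by `t`
    have honly : ∀ a ∈ A, a = 1 ∨ a = d.t := by
      intro a ha
      obtain ⟨z, v, hv, rfl⟩ := hU a ha
      by_cases hv1 : v = 1
      · subst hv1
        rcases z2_cases z with rfl | rfl
        · exact Or.inl (map_one d.E)
        · exact Or.inr rfl
      · exfalso
        apply hcA
        obtain ⟨τ, hτV, hτ1⟩ := inV_conj_ne v hv hv1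
        obtain ⟨ρ, hρ⟩ := conj_V _ hτV hτ1
        have h1 : d.E (1, τ) * d.E (z, v) * (d.E (1, τ))⁻¹ * d.E (z, v) ∈ A :=
          mul_mem (‹A.Normal›.conj_mem _ ha _) ha
        rw [← map_inv, ← map_mul, ← map_mul, ← map_mul] at h1
        have h2 := ‹A.Normal›.conj_mem _ h1 (d.E (1, ρ))
        rw [← map_inv, ← map_mul, ← map_mul] at h2
        convert h2 using 1
        refine congrArg d.E (Prod.ext ?_ ?_)
        · rcases z2_cases z with rfl | rfl <;> simp [u0_sq]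
        · simp [hρ]
    intro g
    obtain ⟨⟨a, ha⟩, hne⟩ := Subgroup.ne_bot_iff_exists_ne_one.1 hA1
    have ha1 : a ≠ 1 := fun h => hne (Subtype.ext h)
    have hat : a = d.t := (honly a ha).resolve_left ha1
    subst hat
    rcases honly _ (‹A.Normal›.conj_mem _ ha g) with h | h
    · exact absurd (conj_eq_one_iff.1 h) ha1
    · exact mul_inv_eq_iff_eq_mul.1 h

theorem isSolvable_top_of_t_central (h : ∀ g : G, g * d.t = d.t * g) : Group.IsSolvable G := by
  have hs : Function.Surjective d.E := fun g => d.cent g (h g)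
  haveI : Group.IsSolvable (Perm (Fin 4)) := H6.isSolvable_of_card_lt_sixty (by
    rw [Nat.card_perm, Nat.card_fin]; decide)
  exact solvable_of_surjective hs

include d in
theorem no_solvable_normal [Finite G] (hns : ¬ Group.IsSolvable G) (S : Subgroup G) [S.Normal]
    (hS : Group.IsSolvable S) : S = ⊥ := by
  classical
  by_contra hne
  have hex : ∃ n, derivedSeries S n = ⊥ := Group.IsSolvable.solvable
  obtain ⟨n, hn, hmin⟩ : ∃ n, derivedSeries S n = ⊥ ∧ ∀ m < n, derivedSeries S m ≠ ⊥ :=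
    ⟨Nat.find hex, Nat.find_spec hex, fun m hm => Nat.find_min hex hm⟩
  obtain ⟨m, rfl⟩ : ∃ m, n = m + 1 := by
    refine Nat.exists_eq_succ_of_ne_zero fun h => hne ?_
    rw [h, derivedSeries_zero] at hn
    rw [← S.range_subtype, MonoidHom.range_eq_map, hn, Subgroup.map_bot]
  set A := (derivedSeries S m).map S.subtype
  have hA1 : A ≠ ⊥ := fun h => hmin m m.lt_succ_self
    ((map_eq_bot_iff_of_injective _ S.subtype_injective).1 h)
  have hab : ∀ a ∈ A, ∀ b ∈ A, a * b = b * a := by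
    rintro _ ⟨a, ha, rfl⟩ _ ⟨b, hb, rfl⟩
    have : ⁅a, b⁆ ∈ derivedSeries S (m + 1) := by
      rw [derivedSeries_succ]; exact Subgroup.commutator_mem_commutator ha hb
    rw [hn, Subgroup.mem_bot, commutatorElement_eq_one_iff_mul_comm] at this
    rw [← map_mul, this, map_mul]
  exact hns (d.isSolvable_top_of_t_central (d.t_central_of_normal A hA1 hab))

end Data

end Cfsg.Agent.H77.TwoSymFour
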