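import Cfsg.Agent.H77.TwoSymFourBasic
import Cfsg.Agent.H19.Cores
import Cfsg.Agent.H62.AutAlternating
import Cfsg.Agent.H29.TwoTransfer
import Cfsg.Agent.S3278

/-!
# The fusion case in which the index two subgroup has a further index two subgroup
-/

set_option autoImplicit false

namespace Cfsg.Agent.H77.TwoSymFour

open Equiv Subgroup

/-- The configuration together with a sign homomorphism. -/
structure Conf (G : Type*) [Group G] extends Data G where
  /-- the sign -/
  φ : G →* ℤˣ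
  φ_t : φ (E (u0, 1)) = -1
  φ_E : ∀ σ, φ (E (1, σ)) = 1

theorem order_two_cases : ∀ σ : Perm (Fin 4), σ ∈ D0 → ¬ InV σ → InV (σ * b0) := by decide +kernel

theorem prod_threes : ∀ v : Perm (Fin 4), InV v →
    ∃ p q : Perm (Fin 4), p ^ 3 = 1 ∧ q ^ 3 = 1 ∧ v = p * q := by decide +kernel

theorem inV_mul : ∀ v : Perm (Fin 4), InV v → ∀ w : Perm (Fin 4), InV w → InV (v * w) := by
  decide +kernel

theorem inV_inv : ∀ v : Perm (Fin 4), InV v → v⁻¹ = v ∧ v * v = 1 := by decide +kernel

theorem one_c0_ne : ((1, c0) : Z2 × Perm (Fin 4)) ≠ 1 := by decide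

theorem card_V : Nat.card {σ : Perm (Fin 4) // InV σ} = 4 := by
  rw [Nat.card_eq_fintype_card, Fintype.card_subtype]
  decide +kernel

namespace Conf

variable {G : Type*} [Group G] (d : Conf G)

theorem φ_eq (z : Z2) (σ : Perm (Fin 4)) : d.φ (d.E (z, σ)) = if z = 1 then 1 else -1 := by
  rw [show ((z, σ) : Z2 × Perm (Fin 4)) = (z, 1) * (1, σ) by simp, map_mul, map_mul, d.φ_E, mul_one]
  rcases z2_cases z with rfl | rfl
  · rw [if_pos rfl, show ((1, 1) : Z2 × Perm (Fin 4)) = 1 from rfl, map_one, map_one]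
  · rw [if_neg (by decide), d.φ_t]

theorem fst_eq_one {z : Z2} {σ : Perm (Fin 4)} (h : d.φ (d.E (z, σ)) = 1) : z = 1 := by
  by_contra hz
  rw [d.φ_eq, if_neg hz] at h
  exact absurd h (by decide)

/-- The embedding into the kernel of the sign. -/
def E1 : Perm (Fin 4) →* d.φ.ker :=
  (d.E.comp (MonoidHom.inr Z2 (Perm (Fin 4)))).codRestrict _ fun σ => MonoidHom.mem_ker.2 (d.φ_E σ)

theorem coe_E1 (σ : Perm (Fin 4)) : (d.E1 σ : G) = d.E (1, σ) := rfl

theorem E1_inj : Function.Injective d.E1 := fun a b h => by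
  have := d.inj (congrArg Subtype.val h)
  exact (Prod.mk.injEq _ _ _ _ ▸ this).2

theorem index_two [Finite G] : d.φ.ker.index = 2 := by
  rw [Subgroup.index_ker, MonoidHom.range_eq_top.2, Subgroup.card_top, Nat.card_eq_fintype_card]
  · rfl
  intro u
  rcases Int.units_eq_one_or u with rfl | rfl
  · exact ⟨1, map_one _⟩
  · exact ⟨_, d.φ_t⟩

theorem index_E1_map [Finite G] (H : Subgroup (Perm (Fin 4))) :
    Nat.card H * (H.map d.E1).index * 2 = Nat.card G := by
  rw [Nat.card_congr (equivMapOfInjective H d.E1 d.E1_inj).toEquiv, card_mul_index,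
    ← d.index_two, card_mul_index]

theorem odd_index_D0 [Finite G] : Odd (D0.map d.E1).index := by
  have h := d.index_E1_map D0
  rw [card_D0] at h
  have h' := d.toData.T0.card_mul_index
  rw [d.toData.card_T0] at h'
  have hodd : Odd d.toData.T0.index :=
    Nat.not_even_iff_odd.1 fun he => d.syl (even_iff_two_dvd.1 he)
  rwa [show (D0.map d.E1).index = d.toData.T0.index by omega]

/-- The Sylow subgroup of the kernel. -/
noncomputable def kerSylow [Finite G] : Sylow 2 d.φ.ker :=
  haveI : Fact (Nat.Prime 2) := ⟨Nat.prime_two⟩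
  (IsPGroup.of_card (n := 3) (by
    rw [← Nat.card_congr (equivMapOfInjective D0 d.E1 d.E1_inj).toEquiv, card_D0]; rfl) :
      IsPGroup 2 (D0.map d.E1)).toSylow
    fun h => Nat.not_even_iff_odd.2 d.odd_index_D0 (even_iff_two_dvd.2 h)

/-- Every involution of the kernel is conjugate into the Sylow subgroup. -/
theorem exists_conj [Finite G] (z : d.φ.ker) (hz : orderOf z = 2) :
    ∃ σ : Perm (Fin 4), σ ∈ D0 ∧ σ * σ = 1 ∧ σ ≠ 1 ∧ IsConj z (d.E1 σ) := by
  haveI : Fact (Nat.Prime 2) := ⟨Nat.prime_two⟩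
  obtain ⟨P, hP⟩ := (IsPGroup.of_card (n := 1) (by rw [Nat.card_zpowers, hz, pow_one]) :
    IsPGroup 2 (zpowers z)).exists_le_sylow
  obtain ⟨k, hk⟩ := MulAction.exists_smul_eq d.φ.ker P d.kerSylow
  have hmem : k * z * k⁻¹ ∈ D0.map d.E1 := by
    have : MulAut.conj k z ∈ ((k • P : Sylow 2 d.φ.ker) : Subgroup d.φ.ker) :=
      Subgroup.smul_mem_pointwise_smul z (MulAut.conj k) _ (hP (mem_zpowers z))
    rw [hk] at this
    exact this
  obtain ⟨σ, hσ, hσe⟩ := Subgroup.mem_map.1 hmem
  have hord : orderOf σ = 2 := by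
    rw [← orderOf_injective d.E1 d.E1_inj, hσe, show k * z * k⁻¹ = MulAut.conj k z from rfl,
      MulEquiv.orderOf_eq, hz]
  refine ⟨σ, hσ, ?_, fun h => by simp [h] at hord, isConj_iff.2 ⟨k, hσe.symm⟩⟩
  rw [← sq, ← hord, pow_orderOf_eq_one]

theorem isConj_V {v : Perm (Fin 4)} (hv : InV v) (hv1 : v ≠ 1) :
    IsConj (d.E1 v) (d.E1 c0) := by
  obtain ⟨τ, hτ⟩ := conj_V v hv hv1
  exact d.E1.map_isConj (isConj_iff.2 ⟨τ, hτ⟩)

/-- The transpositions fuse with the central involution inside the kernel. -/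
theorem isConj_b [Finite G] (hns : ¬ Group.IsSolvable G) :
    IsConj (d.E1 b0) (d.E1 c0) := by
  classical
  by_contra hnc
  haveI : Fact (Nat.Prime 2) := ⟨Nat.prime_two⟩
  -- a further index two subgroup
  let H : Subgroup (Perm (Fin 4)) :=
    { carrier := {σ | InV σ}
      one_mem' := Or.inl rfl
      mul_mem' := fun {a b} ha hb => inV_mul a ha b hb
      inv_mem' := fun {a} ha => show InV a⁻¹ by rw [(inV_inv a ha).1]; exact ha }
  have hHcard : Nat.card H = 4 := card_V
  have hHi : (H.map d.E1).index = 2 * (D0.map d.E1).index := by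
    have h1 := d.index_E1_map H
    have h2 := d.index_E1_map D0
    rw [hHcard] at h1
    rw [card_D0] at h2
    omega
  obtain ⟨ψ, hψ⟩ := H29.exists_hom_neg_one (H.map d.E1) d.odd_index_D0 hHi (d.E1 b0)
    (by rw [← map_pow, show b0 ^ 2 = 1 by decide, map_one]) (fun g hg => by
      obtain ⟨v, hv, hve⟩ := Subgroup.mem_map.1 hg
      have hb : IsConj (d.E1 b0) (d.E1 v) := isConj_iff.2 ⟨g⁻¹, by rw [inv_inv, hve]⟩
      by_cases hv1 : v = 1
      · rw [hv1, map_one, isConj_comm, isConj_one_right, ← map_one d.E1] at hb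
        exact absurd (d.E1_inj hb) (by decide)
      · exact hnc (hb.trans (d.isConj_V hv hv1)))
  -- the subgroup generated by the elements of odd order
  let M : Subgroup G := normalClosure {g : G | Odd (orderOf g)}
  have hMle : ∀ g ∈ M, ∃ h : d.φ g = 1, ψ ⟨g, MonoidHom.mem_ker.2 h⟩ = 1 := by
    have hle : M ≤ ψ.ker.map d.φ.ker.subtype := by
      show normalClosure _ ≤ _
      unfold normalClosure
      rw [Subgroup.closure_le]
      intro g hg
      obtain ⟨a, ha, hga⟩ := Group.mem_conjugatesOfSet_iff.1 hg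
      have hodd : Odd (orderOf g) := by
        obtain ⟨k, rfl⟩ := isConj_iff.1 hga
        rw [show k * a * k⁻¹ = MulAut.conj k a from rfl, MulEquiv.orderOf_eq]
        exact ha
      have one_of_odd : ∀ {X : Type _} [Group X] (χ : X →* ℤˣ) (x : X), Odd (orderOf x) → χ x = 1 := by
        intro X _ χ x hx
        rcases Int.units_eq_one_or (χ x) with h | h
        · exact h
        · have := congrArg χ (pow_orderOf_eq_one x)
          rw [map_pow, map_one, h, hx.neg_one_pow] at this
          exact absurd this (by decide)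
      have h1 := one_of_odd d.φ g hodd
      refine ⟨⟨g, MonoidHom.mem_ker.2 h1⟩, MonoidHom.mem_ker.2 (one_of_odd ψ _ ?_), rfl⟩
      rwa [← Subgroup.orderOf_coe]
    intro g hg
    obtain ⟨a, ha, rfl⟩ := hle hg
    exact ⟨MonoidHom.mem_ker.1 a.2, MonoidHom.mem_ker.1 ha⟩
  have hVM : ∀ v : Perm (Fin 4), InV v → d.E (1, v) ∈ M := by
    intro v hv
    obtain ⟨p, q, hp, hq, rfl⟩ := prod_threes v hv
    have hmem : ∀ p : Perm (Fin 4), p ^ 3 = 1 → d.E (1, p) ∈ M := fun p hp => by
      refine subset_normalClosure (Odd.of_dvd_nat (by decide : Odd 3) (orderOf_dvd_of_pow_eq_one ?_))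
      rw [← map_pow, Prod.pow_mk, one_pow, hp]
      exact map_one d.E
    rw [show ((1, p * q) : Z2 × Perm (Fin 4)) = (1, p) * (1, q) by simp, map_mul]
    exact mul_mem (hmem p hp) (hmem q hq)
  have hcentM : ∀ g ∈ M, g * d.toData.c = d.toData.c * g → ∃ v, InV v ∧ d.E (1, v) = g := by
    intro g hg hgc
    obtain ⟨⟨z, σ⟩, hσ, rfl⟩ := d.cent2 g hgc
    obtain ⟨h1, h2⟩ := hMle _ hg
    obtain rfl := d.fst_eq_one h1
    refine ⟨σ, by_contra fun hV => ?_, rfl⟩
    have hv := order_two_cases σ hσ hV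
    have e : (⟨d.E (1, σ), MonoidHom.mem_ker.2 h1⟩ : d.φ.ker) = d.E1 (σ * b0) * d.E1 b0 := by
      rw [← map_mul, mul_assoc, show b0 * b0 = 1 by decide, mul_one]; exact Subtype.ext rfl
    rw [e, map_mul, hψ] at h2
    have hv1 : ψ (d.E1 (σ * b0)) = 1 := by
      obtain ⟨h1', h2'⟩ := hMle _ (hVM _ hv)
      exact h2'
    rw [hv1] at h2
    exact absurd h2 (by decide)
  have hMne : M ≠ ⊥ := fun h => by
    have := hVM c0 (Or.inr (Or.inl rfl))
    rw [h, Subgroup.mem_bot] at this
    exact d.toData.ne_one one_c0_ne this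
  -- a minimal normal subgroup inside
  obtain ⟨L, ⟨hLn, hLne, hLM⟩, hLmin⟩ := exists_minimal_of_wellFoundedLT
    (α := Subgroup G) (fun L => L.Normal ∧ L ≠ ⊥ ∧ L ≤ M) ⟨M, inferInstance, hMne, le_rfl⟩
  haveI := hLn
  have hcL : d.toData.c ∈ L := by
    have heven : 2 ∣ Nat.card L := by
      by_contra h
      exact hLne (d.toData.eq_bot_of_odd L (Nat.not_even_iff_odd.1 fun he => h (even_iff_two_dvd.1 he))
        fun v _ x hx => hLn.conj_mem x hx _)
    obtain ⟨z, hz⟩ := exists_prime_orderOf_dvd_card' 2 heven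
    obtain ⟨h1, -⟩ := hMle _ (hLM z.2)
    obtain ⟨σ, hσ, -, hσ1, hσc⟩ := d.exists_conj ⟨z, MonoidHom.mem_ker.2 h1⟩
      (by rw [← Subgroup.orderOf_coe]; exact (Subgroup.orderOf_coe z).trans hz)
    obtain ⟨k, hk⟩ := isConj_iff.1 hσc
    have hk' : (k : G) * z * (k : G)⁻¹ = d.E (1, σ) := congrArg Subtype.val hk
    have hσL : d.E (1, σ) ∈ L := hk' ▸ hLn.conj_mem _ z.2 _
    obtain ⟨v, hv, hve⟩ := hcentM _ (hLM hσL) (d.toData.comm_c hσ)
    obtain ⟨τ, hτ⟩ := conj_V v hv (fun h => hσ1 (by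
      have := (Prod.mk.injEq _ _ _ _ ▸ d.inj hve).2
      rw [← this, h]))
    have := hLn.conj_mem _ hσL (d.E (1, τ))
    rw [← hve, ← map_inv, ← map_mul, ← map_mul] at this
    simpa [Data.c, hτ] using this
  have hVL : ∀ v : Perm (Fin 4), InV v → d.E (1, v) ∈ L := by
    intro v hv
    by_cases hv1 : v = 1
    · subst hv1
      rw [show ((1, 1) : Z2 × Perm (Fin 4)) = 1 from rfl, map_one]; exact one_mem L
    · obtain ⟨k, hk⟩ := isConj_iff.1 (d.toData.isConj_V hv hv1 1).symm
      rw [← hk]; exact hLn.conj_mem _ hcL k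
  have hCL : centralizer (L : Set G) = ⊥ := by
    refine d.toData.no_solvable_normal hns _ ?_
    have : IsPGroup 2 (centralizer (L : Set G)) := fun g =>
      ⟨2, Subtype.ext (by simpa using
        d.toData.pow_four_of_comm (mem_centralizer_iff.1 g.2 _ hcL).symm)⟩
    haveI := this.isNilpotent
    infer_instance
  have hLns : ¬ Group.IsSolvable L := fun h => hLne (d.toData.no_solvable_normal hns L h)
  -- simplicity
  have hO2 : Cfsg.pCore 2 L = ⊥ := by
    haveI := H19.pCore_characteristic 2 L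
    haveI : ((Cfsg.pCore 2 L).map L.subtype).Normal := ConjAct.normal_of_characteristic_of_normal
    have := d.toData.no_solvable_normal hns ((Cfsg.pCore 2 L).map L.subtype) (by
      haveI := ((H19.pCore_isPGroup (G := L) 2).map L.subtype).isNilpotent
      infer_instance)
    exact (map_eq_bot_iff_of_injective _ L.subtype_injective).1 this
  have hinvN : ∀ N : Subgroup L, N.Normal → N ≠ ⊥ → ∃ z ∈ N, orderOf z = 2 := by
    intro N hN hne
    have heven : 2 ∣ Nat.card N := by
      by_contra h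
      refine hne ((map_eq_bot_iff_of_injective _ L.subtype_injective).1
        (d.toData.eq_bot_of_odd (N.map L.subtype) ?_ fun v hv x hx => ?_))
      · rw [← Nat.card_congr (equivMapOfInjective _ _ L.subtype_injective).toEquiv]
        exact Nat.not_even_iff_odd.1 fun he => h (even_iff_two_dvd.1 he)
      · obtain ⟨y, hy, rfl⟩ := hx
        exact ⟨_, hN.conj_mem y hy ⟨_, hVL v hv⟩, rfl⟩
    obtain ⟨z, hz⟩ := exists_prime_orderOf_dvd_card' 2 heven
    exact ⟨z, z.2, by rw [Subgroup.orderOf_coe]; exact hz⟩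
  have hcent4 : ∀ z : L, orderOf z = 2 → ∀ g : L, g * z = z * g → g ^ 4 = 1 := by
    intro z hz g hg
    obtain ⟨h1, -⟩ := hMle _ (hLM z.2)
    obtain ⟨σ, hσ, -, hσ1, hσc⟩ := d.exists_conj ⟨z, MonoidHom.mem_ker.2 h1⟩
      (by rw [← Subgroup.orderOf_coe]; exact (Subgroup.orderOf_coe z).trans hz)
    obtain ⟨k, hk⟩ := isConj_iff.1 hσc
    have hk' : (k : G) * z * (k : G)⁻¹ = d.E (1, σ) := congrArg Subtype.val hk
    obtain ⟨v, hv, hve⟩ := hcentM _ (hk' ▸ (inferInstance : M.Normal).conj_mem _ (hLM z.2) _)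
      (d.toData.comm_c hσ)
    obtain ⟨τ, hτ⟩ := conj_V v hv (fun h => hσ1 (by
      have := (Prod.mk.injEq _ _ _ _ ▸ d.inj hve).2
      rw [← this, h]))
    set K := d.E (1, τ) * (k : G)
    have hzc : K * z * K⁻¹ = d.toData.c := by
      show d.E (1, τ) * k * z * (d.E (1, τ) * k)⁻¹ = _
      rw [mul_inv_rev, show d.E (1, τ) * k * z * ((k : G)⁻¹ * (d.E (1, τ))⁻¹) =
        d.E (1, τ) * (k * z * (k : G)⁻¹) * (d.E (1, τ))⁻¹ by group, hk', ← hve, ← map_inv, ← map_mul,
        ← map_mul]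
      simp [Data.c, hτ]
    have h4 := d.toData.pow_four_of_comm (g := K * g * K⁻¹) (by
      rw [← hzc]
      have : (g : G) * z = z * g := congrArg Subtype.val hg
      calc K * g * K⁻¹ * (K * z * K⁻¹) = K * ((g : G) * z) * K⁻¹ := by group
        _ = K * ((z : G) * g) * K⁻¹ := by rw [this]
        _ = _ := by group)
    rw [conj_pow, conj_eq_one_iff] at h4
    exact Subtype.ext h4
  have hmeet : ∀ A B : Subgroup L, A.Normal → B.Normal → A ≠ ⊥ → B ≠ ⊥ → A ⊓ B ≠ ⊥ := by
    intro A B hA hB hA1 hB1 hAB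
    obtain ⟨z, hzA, hz⟩ := hinvN A hA hA1
    have hB2 : IsPGroup 2 B := fun b => ⟨2, Subtype.ext (hcent4 z hz b
      (Subgroup.commute_of_normal_of_disjoint A B hA hB (disjoint_iff.2 hAB) z b hzA b.2).eq.symm)⟩
    exact hB1 (le_bot_iff.1 (hO2 ▸ H19.le_pCore hB hB2))
  haveI : Nontrivial L := (Subgroup.nontrivial_iff_ne_bot L).2 hLne
  obtain ⟨N0, ⟨hN0n, hN0ne⟩, hN0min⟩ := exists_minimal_of_wellFoundedLT (α := Subgroup L)
    (fun N => N.Normal ∧ N ≠ ⊥) ⟨⊤, inferInstance, top_ne_bot⟩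
  have hN0le : ∀ N : Subgroup L, N.Normal → N ≠ ⊥ → N0 ≤ N := by
    intro N hN hne
    haveI := hN
    haveI := hN0n
    have := hN0min ⟨inferInstance, hmeet N0 N hN0n hN hN0ne hne⟩ inf_le_left
    exact this.trans inf_le_right
  have hN0char : N0.Characteristic := by
    rw [Subgroup.characteristic_iff_le_comap]
    intro f
    refine hN0le _ (hN0n.comap _) fun h => hN0ne ?_
    rw [← Subgroup.map_comap_eq_self_of_surjective (f := f.toMonoidHom) f.surjective N0, h,
      Subgroup.map_bot]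
  have hN0top : N0 = ⊤ := by
    haveI := hN0char
    haveI : (N0.map L.subtype).Normal := ConjAct.normal_of_characteristic_of_normal
    have hle : N0.map L.subtype ≤ L := map_subtype_le N0
    have := hLmin ⟨inferInstance, (fun h => hN0ne
      ((map_eq_bot_iff_of_injective _ L.subtype_injective).1 h)), hle.trans hLM⟩ hle
    rw [eq_top_iff]
    intro x _
    obtain ⟨y, hy, hyx⟩ := this x.2
    rwa [Subtype.ext hyx] at hy
  haveI : IsSimpleGroup L := ⟨fun N hN => by
    by_cases h : N = ⊥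
    · exact Or.inl h
    · exact Or.inr (top_le_iff.1 (hN0top ▸ hN0le N hN h))⟩
  -- the simple group is alternating of degree five
  set x : L := ⟨d.toData.c, hcL⟩
  have hx : orderOf x = 2 := by rw [← Subgroup.orderOf_coe]; exact d.toData.order_c
  let F : {σ : Perm (Fin 4) // InV σ} → ↥(centralizer ({x} : Set L)) := fun v =>
    ⟨⟨d.E (1, v.1), hVL v.1 v.2⟩, mem_centralizer_singleton_iff.2
      (Subtype.ext (d.toData.comm_c (inV_mem_D0 v.1 v.2)))⟩
  have hF : Function.Bijective F := by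
    constructor
    · intro v w h
      have := d.inj (congrArg (fun y : ↥(centralizer ({x} : Set L)) => ((y : L) : G)) h)
      exact Subtype.ext (Prod.mk.injEq _ _ _ _ ▸ this).2
    · intro g
      obtain ⟨v, hv, hve⟩ := hcentM ((g : L) : G) (hLM (g : L).2)
        (congrArg Subtype.val (mem_centralizer_singleton_iff.1 g.2))
      exact ⟨⟨v, hv⟩, Subtype.ext (Subtype.ext hve)⟩
  have hK : IsKleinFour ↥(centralizer ({x} : Set L)) := by
    refine ⟨(Nat.card_eq_of_bijective F hF).symm.trans card_V, ?_⟩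
    have hsq : ∀ g : ↥(centralizer ({x} : Set L)), g ^ 2 = 1 := by
      intro g
      obtain ⟨v, rfl⟩ := hF.2 g
      refine Subtype.ext (Subtype.ext ?_)
      show (d.E (1, v.1)) ^ 2 = 1
      rw [← map_pow, Prod.pow_mk, one_pow, sq, (inV_inv v.1 v.2).2]
      exact map_one d.E
    haveI : Nontrivial ↥(centralizer ({x} : Set L)) :=
      ⟨⟨⟨x, mem_centralizer_singleton_iff.2 rfl⟩, 1, fun h => by
        have := congrArg Subtype.val h
        simp only [Subgroup.coe_one] at this
        simp [this] at hx⟩⟩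
    exact (Monoid.exponent_eq_prime_iff Nat.prime_two).2 fun g hg =>
      orderOf_eq_prime (hsq g) hg
  obtain ⟨e⟩ := S3278.result x hx (centralizer ({x} : Set L)) le_rfl hK
    (by rw [Subgroup.relIndex_self]; decide) (by rw [Subgroup.subgroupOf_self]; infer_instance)
  -- the whole group acts faithfully
  have hinj : Function.Injective (MulAut.conjNormal : G →* MulAut L) := by
    rw [← MonoidHom.ker_eq_bot_iff, eq_bot_iff, ← hCL]
    intro g hg
    rw [mem_centralizer_iff]
    intro y hy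
    have h := congrArg (fun f : MulAut L => ((f ⟨y, hy⟩ : L) : G)) (MonoidHom.mem_ker.1 hg)
    simp only [MulAut.conjNormal_apply, MulAut.one_apply] at h
    exact (mul_inv_eq_iff_eq_mul.1 h).symm
  let Φ : G →* MulAut (alternatingGroup (Fin 5)) :=
    (MulAut.congr e).toMonoidHom.comp MulAut.conjNormal
  have hΦ : Function.Injective Φ := (MulAut.congr e).injective.comp hinj
  have hdvd := Subgroup.card_dvd_of_injective Φ hΦ
  rw [← Nat.card_eq_of_bijective _ ⟨H62.conjNormal_injective (n := 5) (by norm_num),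
    H62.conjNormal_surjective (by norm_num) (by norm_num)⟩, Nat.card_perm, Nat.card_fin] at hdvd
  have h16 : 16 ∣ Nat.card G := d.toData.card_T0 ▸ d.toData.T0.card_subgroup_dvd_card
  exact absurd (h16.trans hdvd) (by decide)

end Conf

end Cfsg.Agent.H77.TwoSymFour
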