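import Cfsg.Agent.H77.TwoSymFourKlein
import Cfsg.Agent.H38.D8Centralizer

/-!
# The index two subgroup is simple
-/

set_option autoImplicit false

namespace Cfsg.Agent.H77.TwoSymFour

open Equiv Subgroup

/-- The dihedral group as a subgroup of the symmetric group. -/
def emb : DihedralGroup 4 → Perm (Fin 4)
  | .r i => r0 ^ i.val
  | .sr i => b0 * r0 ^ i.val

theorem emb_mul : ∀ x y, emb (x * y) = emb x * emb y := by decide +kernel

theorem emb_inj : ∀ x y, emb x = emb y → x = y := by decide +kernel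

theorem emb_mem : ∀ x, emb x ∈ D0 := by decide +kernel

theorem emb_surj : ∀ σ : Perm (Fin 4), σ ∈ D0 → ∃ x, emb x = σ := by decide +kernel

theorem emb_r_two : emb (.r 2) = c0 := by decide +kernel

theorem D0_cases : ∀ σ : Perm (Fin 4), σ ∈ D0 → ∃ x y : Perm (Fin 4),
    (x = 1 ∨ x = c0 ∨ x = a0 ∨ x = d0) ∧ (y = 1 ∨ y = b0) ∧ σ = x * y := by decide +kernel

theorem invol_D0 : ∀ σ : Perm (Fin 4), σ ∈ D0 → σ * σ = 1 → σ ≠ 1 →
    (InV σ ∨ ∃ τ : Perm (Fin 4), τ * b0 * τ⁻¹ = σ) := D0_invol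

theorem commute_c0_center : ∀ σ : Perm (Fin 4), σ ∈ D0 → σ ≠ 1 →
    (∀ τ : Perm (Fin 4), τ ∈ D0 → σ * τ = τ * σ) → σ = c0 := by decide +kernel

namespace Conf

variable {G : Type*} [Group G] (d : Conf G)

/-- The embedding of the dihedral group. -/
def embHom : DihedralGroup 4 →* d.φ.ker := d.E1.comp (MonoidHom.mk' emb emb_mul)

theorem comm_ker {g : d.φ.ker} (h : g * d.E1 c0 = d.E1 c0 * g) : ∃ σ, σ ∈ D0 ∧ d.E1 σ = g := by
  obtain ⟨⟨z, σ⟩, hσ, he⟩ := d.cent2 (g : G) (congrArg Subtype.val h)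
  have hz : z = 1 := d.fst_eq_one (σ := σ) (by rw [he]; exact g.2)
  subst hz
  exact ⟨σ, hσ, Subtype.ext he⟩

/-- The data of an involution centraliser of order eight. -/
def d8Data : H38.D8Data d.φ.ker where
  f := d.embHom
  inj := d.E1_inj.comp fun x y h => emb_inj x y h
  range_eq := by
    ext g
    rw [mem_centralizer_singleton_iff]
    show g ∈ d.embHom.range ↔ g * d.E1 (emb (.r 2)) = d.E1 (emb (.r 2)) * g
    rw [emb_r_two]
    constructor
    · rintro ⟨x, rfl⟩
      show d.E1 (emb x) * _ = _ * d.E1 (emb x)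
      rw [← map_mul, ← map_mul, mem_D0.1 (emb_mem x)]
    · intro h
      obtain ⟨σ, hσ, rfl⟩ := d.comm_ker h
      obtain ⟨x, rfl⟩ := emb_surj σ hσ
      exact ⟨x, rfl⟩

theorem invol_isConj [Finite G] (hns : ¬ Group.IsSolvable G) {z : d.φ.ker} (hz : orderOf z = 2) :
    IsConj z (d.E1 c0) := by
  obtain ⟨σ, hσ, hsq, hσ1, hc⟩ := d.exists_conj z hz
  refine hc.trans ?_
  rcases D0_invol σ hσ hsq hσ1 with hV | ⟨τ, rfl⟩
  · exact d.isConj_V hV hσ1
  · exact ((d.E1.map_isConj (isConj_iff.2 ⟨τ, rfl⟩)).symm).trans (d.isConj_b hns)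

theorem perfect [Finite G] (hns : ¬ Group.IsSolvable G) : commutator d.φ.ker = ⊤ := by
  haveI : Fact (Nat.Prime 2) := ⟨Nat.prime_two⟩
  have hc : d.E1 c0 ∈ commutator d.φ.ker := by
    obtain ⟨σ, _, τ, _, h⟩ := c0_commutator
    rw [← h]
    simp only [map_mul, map_inv]
    exact Subgroup.commutator_mem_commutator (mem_top _) (mem_top _)
  have hconj : ∀ z, IsConj z (d.E1 c0) → z ∈ commutator d.φ.ker := by
    intro z hz
    obtain ⟨k, hk⟩ := isConj_iff.1 hz.symm
    rw [← hk]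
    exact (inferInstance : (commutator d.φ.ker).Normal).conj_mem _ hc k
  have hD : ∀ σ : Perm (Fin 4), σ ∈ D0 → d.E1 σ ∈ commutator d.φ.ker := by
    intro σ hσ
    obtain ⟨x, y, hx, hy, rfl⟩ := D0_cases σ hσ
    rw [map_mul]
    refine mul_mem ?_ ?_
    · by_cases hx1 : x = 1
      · rw [hx1, map_one]; exact one_mem _
      · exact hconj _ (d.isConj_V hx hx1)
    · rcases hy with rfl | rfl
      · rw [map_one]; exact one_mem _
      · exact hconj _ (d.isConj_b hns)
  have hP : ((d.kerSylow : Sylow 2 d.φ.ker) : Subgroup d.φ.ker) ≤ commutator d.φ.ker := by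
    intro g hg
    obtain ⟨σ, hσ, rfl⟩ := Subgroup.mem_map.1 (show g ∈ D0.map d.E1 from hg)
    exact hD σ hσ
  have h := Sylow.normalizer_sup_eq_top' d.kerSylow hP
  have hN : normalizer ((d.kerSylow : Subgroup d.φ.ker) : Set d.φ.ker) ≤ commutator d.φ.ker := by
    intro n hn
    have hn' : n ∈ normalizer ((D0.map d.E1 : Subgroup d.φ.ker) : Set d.φ.ker) := hn
    obtain ⟨σ, hσ, he⟩ := Subgroup.mem_map.1
      ((mem_normalizer_iff.1 hn' (d.E1 c0)).1 ⟨c0, mem_D0.2 rfl, rfl⟩)
    have hσc : σ = c0 := by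
      refine commute_c0_center σ hσ (fun h => ?_) fun τ hτ => d.E1_inj ?_
      · rw [h, map_one, eq_comm, conj_eq_one_iff, ← map_one d.E1] at he
        exact absurd (d.E1_inj he) (by decide)
      · obtain ⟨ρ, hρ, hρe⟩ := Subgroup.mem_map.1
          (((mem_normalizer_iff''.mp hn') (d.E1 τ)).1 ⟨τ, hτ, rfl⟩)
        have e1 : d.E1 ρ * d.E1 c0 = d.E1 c0 * d.E1 ρ := by
          rw [← map_mul, ← map_mul, mem_D0.1 hρ]
        rw [map_mul, map_mul, he]
        rw [hρe] at e1
        calc n * d.E1 c0 * n⁻¹ * d.E1 τ = n * (d.E1 c0 * (n⁻¹ * d.E1 τ * n)) * n⁻¹ := by group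
          _ = n * ((n⁻¹ * d.E1 τ * n) * d.E1 c0) * n⁻¹ := by rw [e1]
          _ = _ := by group
    subst hσc
    obtain ⟨σ, hσ, rfl⟩ := d.comm_ker (mul_inv_eq_iff_eq_mul.1 he.symm)
    exact hD σ hσ
  rw [eq_top_iff, ← h]
  exact sup_le hN le_rfl

theorem simple [Finite G] (hns : ¬ Group.IsSolvable G)
    (hcard : Nat.card d.φ.ker = 168 ∨ Nat.card d.φ.ker = 360) : IsSimpleGroup d.φ.ker := by
  haveI : Nontrivial d.φ.ker := Finite.one_lt_card_iff_nontrivial.1 (by omega)
  refine ⟨fun N hN => ?_⟩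
  by_contra hne
  rw [not_or] at hne
  haveI := hN
  -- the quotient is not solvable, so `N` is small
  have hq60 : 60 ≤ N.index := by
    by_contra h
    haveI : Group.IsSolvable (d.φ.ker ⧸ N) := H6.isSolvable_of_card_lt_sixty (by
      rw [← index_eq_card]; omega)
    haveI : Nontrivial (d.φ.ker ⧸ N) := QuotientGroup.nontrivial_iff.2 hne.2
    have h1 := Group.IsSolvable.commutator_lt_top_of_nontrivial (d.φ.ker ⧸ N)
    rw [commutator_def, ← Subgroup.map_top_of_surjective _ (QuotientGroup.mk'_surjective N),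
      ← Subgroup.map_commutator, ← commutator_def, d.perfect hns] at h1
    exact h1.ne rfl
  have hNs : Group.IsSolvable N := H6.isSolvable_of_card_lt_sixty (by
    have := N.card_mul_index
    have : Nat.card N * 60 ≤ 360 := by
      calc Nat.card N * 60 ≤ Nat.card N * N.index := Nat.mul_le_mul_left _ hq60
        _ ≤ 360 := by omega
    omega)
  have hzc : d.E1 c0 ∈ N := by
    have heven : 2 ∣ Nat.card N := by
      by_contra h
      refine hne.1 ((map_eq_bot_iff_of_injective _ d.φ.ker.subtype_injective).1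
        (d.toData.eq_bot_of_odd (N.map d.φ.ker.subtype) ?_ fun v hv x hx => ?_))
      · rw [← Nat.card_congr (equivMapOfInjective _ _ d.φ.ker.subtype_injective).toEquiv]
        exact Nat.not_even_iff_odd.1 fun he => h (even_iff_two_dvd.1 he)
      · obtain ⟨y, hy, rfl⟩ := hx
        exact ⟨_, hN.conj_mem y hy (d.E1 v), rfl⟩
    obtain ⟨z, hz⟩ := exists_prime_orderOf_dvd_card' 2 heven
    obtain ⟨k, hk⟩ := isConj_iff.1 (d.invol_isConj hns (z := (z : d.φ.ker))
      (by rw [Subgroup.orderOf_coe]; exact hz))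
    exact hk ▸ hN.conj_mem _ z.2 k
  -- intersect with the conjugate under `t`
  let α : MulAut d.φ.ker := MulAut.conjNormal d.toData.t
  let W : Subgroup d.φ.ker := N ⊓ N.comap α.toMonoidHom
  have hcW : d.E1 c0 ∈ W := ⟨hzc, by
    show α (d.E1 c0) ∈ N
    rwa [show α (d.E1 c0) = d.E1 c0 from Subtype.ext (by
      show d.E (u0, 1) * d.E (1, c0) * (d.E (u0, 1))⁻¹ = d.E (1, c0)
      rw [← map_inv, ← map_mul, ← map_mul]
      exact congrArg d.E (Prod.ext (by decide) (by simp)))]⟩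
  haveI : W.Normal := inferInstance
  have hαα : ∀ k, α (α k) = k := fun k => Subtype.ext (by
    have ht : d.toData.t * d.toData.t = 1 := by
      rw [← sq, ← d.toData.order_t, pow_orderOf_eq_one]
    show d.toData.t * (d.toData.t * (k : G) * d.toData.t⁻¹) * d.toData.t⁻¹ = k
    rw [inv_eq_of_mul_eq_one_right ht]
    calc d.toData.t * (d.toData.t * (k : G) * d.toData.t) * d.toData.t
        = (d.toData.t * d.toData.t) * (k : G) * (d.toData.t * d.toData.t) := by group
      _ = k := by rw [ht, one_mul, mul_one])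
  have hWn : (W.map d.φ.ker.subtype).Normal := by
    constructor
    rintro _ ⟨w, hw, rfl⟩ g
    rcases Int.units_eq_one_or (d.φ g) with hg | hg
    · exact ⟨_, (inferInstance : W.Normal).conj_mem w hw ⟨g, MonoidHom.mem_ker.2 hg⟩, rfl⟩
    · have hgt : g * d.toData.t⁻¹ ∈ d.φ.ker := by
        rw [MonoidHom.mem_ker, map_mul, map_inv, hg, Data.t, d.φ_t]; decide
      refine ⟨_, (inferInstance : W.Normal).conj_mem (α w) ⟨hw.2, ?_⟩ ⟨_, hgt⟩, ?_⟩
      · show α (α w) ∈ N
        rw [hαα]; exact hw.1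
      · show g * d.toData.t⁻¹ * (d.toData.t * (w : G) * d.toData.t⁻¹) * (g * d.toData.t⁻¹)⁻¹ = g * w * g⁻¹
        group
  haveI := hWn
  haveI : Group.IsSolvable W := Group.isSolvable_of_isSolvable_injective (inclusion_injective (inf_le_left : W ≤ N))
  have := d.toData.no_solvable_normal hns (W.map d.φ.ker.subtype)
    (Group.isSolvable_of_surjective (W.equivMapOfInjective _ d.φ.ker.subtype_injective).surjective
      (f := (W.equivMapOfInjective _ d.φ.ker.subtype_injective).toMonoidHom))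
  have h2 : d.toData.c ∈ W.map d.φ.ker.subtype := ⟨_, hcW, rfl⟩
  rw [this, Subgroup.mem_bot] at h2
  exact d.toData.ne_one one_c0_ne h2

theorem card_ker [Finite G] (hns : ¬ Group.IsSolvable G) :
    Nat.card d.φ.ker = 168 ∨ Nat.card d.φ.ker = 360 := by
  let : Fintype d.φ.ker := Fintype.ofFinite _
  exact d.d8Data.card_eq (d.perfect hns)

end Conf

end Cfsg.Agent.H77.TwoSymFour
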