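import Cfsg.Agent.H50.PSUThreeSylow

/-!
An automorphism of the Sylow 2-subgroup of `SU₃(q)`, `q` even, whose square is inner centralizes
the centre.

The automorphism induces additive involutions `σ` on `F = 𝔽_{q²}` and `τ` on `K = 𝔽_q` with
`τ (x ^ (q + 1)) = σ x ^ (q + 1)`. After scaling, `σ 1 = 1`; then `τ` is multiplicative, and for
`v` with trace one, `d = v + v ^ 2 ∈ K` is forced into the image of `y ↦ y ^ 2 + y` on `K`, which
is absurd unless `τ` is trivial.
-/

set_option autoImplicit false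

namespace Cfsg.Agent.H77.UnitaryCenter

variable {F : Type*} [Field F] [Fintype F] {q : ℕ}

/-- The field-theoretic core, for maps fixing one. -/
theorem fixed_eq_self_of_one (H : H50.PSUThree.Hyp F q) (σ τ : F → F)
    (σadd : ∀ x y, σ (x + y) = σ x + σ y) (σinv : ∀ x, σ (σ x) = x) (σone : σ 1 = 1)
    (τadd : ∀ c d : F, c ^ q = c → d ^ q = d → τ (c + d) = τ c + τ d)
    (τmem : ∀ c : F, c ^ q = c → τ c ^ q = τ c)
    (τinv : ∀ c : F, c ^ q = c → τ (τ c) = c)
    (hnorm : ∀ x, τ (x ^ (q + 1)) = σ x ^ (q + 1)) :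
    ∀ c : F, c ^ q = c → τ c = c := by
  have two := H.two
  have addq : ∀ x y : F, (x + y) ^ q = x ^ q + y ^ q := H3.add_pow_q H.card
  have qq : ∀ x : F, (x ^ q) ^ q = x := H3.pow_q_pow_q H.card
  have normK : ∀ x : F, (x ^ (q + 1)) ^ q = x ^ (q + 1) := H3.norm_pow_q H.card
  have selfz : ∀ x : F, x + x = 0 := H.add_self
  have h0K : (0 : F) ^ q = 0 := H.zero_q
  have h1K : (1 : F) ^ q = 1 := one_pow q
  have hadd : ∀ x y : F, x ^ q = x → y ^ q = y → (x + y) ^ q = x + y := fun x y hx hy => by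
    rw [addq, hx, hy]
  have hmul : ∀ x y : F, x ^ q = x → y ^ q = y → (x * y) ^ q = x * y := fun x y hx hy => by
    rw [mul_pow, hx, hy]
  have hB : ∀ u v : F, τ (u ^ q * v + v ^ q * u) = σ u ^ q * σ v + σ v ^ q * σ u := by
    intro u v
    have hK : (u ^ q * v + v ^ q * u) ^ q = u ^ q * v + v ^ q * u := by
      rw [addq, mul_pow, mul_pow, qq, qq]
      ring
    have h1 : (u + v) ^ (q + 1) = (u ^ (q + 1) + v ^ (q + 1)) + (u ^ q * v + v ^ q * u) := by
      rw [pow_succ, pow_succ, pow_succ, addq]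
      ring
    have h2 := hnorm (u + v)
    rw [h1, τadd _ _ (hadd _ _ (normK u) (normK v)) hK, τadd _ _ (normK u) (normK v), hnorm, hnorm,
      σadd, pow_succ, pow_succ, pow_succ, addq] at h2
    linear_combination h2
  have τone : τ 1 = 1 := by
    have := hnorm 1
    rwa [one_pow, σone, one_pow] at this
  have τzero : τ 0 = 0 := by
    have h := τadd 0 0 h0K h0K
    rw [add_zero] at h
    linear_combination -h
  have hT : ∀ v : F, τ (v + v ^ q) = σ v + σ v ^ q := by
    intro v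
    have h := hB 1 v
    rwa [σone, one_pow, one_mul, mul_one, one_mul, mul_one] at h
  have hσK : ∀ x : F, x ^ q = x → σ x ^ q = σ x := by
    intro x hx
    have h := hT x
    rw [H.mem_fixed_iff.2 hx, τzero] at h
    exact H.mem_fixed_iff.1 h.symm
  have hmix : ∀ x z : F, x ^ q = x → z ^ q = z → τ (x * z) = σ x * τ z := by
    intro x z hx hz
    obtain ⟨v, hv⟩ := H3.exists_trace_eq H.card hz
    have h := hB x v
    rw [hx, hσK x hx, show x * v + v ^ q * x = x * z by linear_combination x * hv] at h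
    have h2 := hT v
    rw [hv] at h2
    rw [h, h2]
    ring
  have hστ : ∀ x : F, x ^ q = x → τ x = σ x := by
    intro x hx
    have h := hmix x 1 hx h1K
    rwa [mul_one, τone, mul_one] at h
  have hτmul : ∀ x z : F, x ^ q = x → z ^ q = z → τ (x * z) = τ x * τ z := fun x z hx hz => by
    rw [hmix x z hx hz, hστ x hx]
  by_contra hne
  push Not at hne
  obtain ⟨w, hwK, hw⟩ := hne
  -- the fixed field `L`
  have he : w + τ w ≠ 0 := fun e => hw (by linear_combination e - w * two)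
  have heK : (w + τ w) ^ q = w + τ w := hadd _ _ hwK (τmem w hwK)
  have heτ : τ (w + τ w) = w + τ w := by
    rw [τadd _ _ hwK (τmem w hwK), τinv w hwK]
    ring
  have hinvK : (w + τ w)⁻¹ ^ q = (w + τ w)⁻¹ := by rw [inv_pow, heK]
  have hinvτ : τ (w + τ w)⁻¹ = (w + τ w)⁻¹ := by
    have h := hτmul _ _ heK hinvK
    rw [mul_inv_cancel₀ he, τone, heτ] at h
    exact eq_inv_of_mul_eq_one_right h.symm
  obtain ⟨z, hzK, hz⟩ : ∃ z : F, z ^ q = z ∧ τ z = z + 1 := by
    refine ⟨w * (w + τ w)⁻¹, hmul _ _ hwK hinvK, ?_⟩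
    rw [hτmul _ _ hwK hinvK, hinvτ]
    field_simp
    linear_combination -w * two
  let L : AddSubgroup F :=
    { carrier := {x | x ^ q = x ∧ τ x = x}
      zero_mem' := ⟨h0K, τzero⟩
      add_mem' := fun {x y} hx hy =>
        ⟨hadd _ _ hx.1 hy.1, by rw [τadd _ _ hx.1 hy.1, hx.2, hy.2]⟩
      neg_mem' := fun {x} hx => by rw [H.neg_eq]; exact hx }
  have hLmem : ∀ x : F, x ∈ L ↔ x ^ q = x ∧ τ x = x := fun x => Iff.rfl
  have hLsq : ∀ x ∈ L, x ^ 2 + x ∈ L := by
    intro x hx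
    obtain ⟨h1, h2⟩ := (hLmem x).1 hx
    refine L.add_mem ((hLmem _).2 ⟨by rw [sq, mul_pow, h1], ?_⟩) hx
    rw [sq, hτmul _ _ h1 h1, h2]
  let f : L →+ L := AddMonoidHom.mk' (fun x => ⟨(x : F) ^ 2 + x, hLsq _ x.2⟩) fun x y => by
    apply Subtype.ext
    show ((x : F) + y) ^ 2 + ((x : F) + y) = ((x : F) ^ 2 + x) + ((y : F) ^ 2 + y)
    linear_combination ((x : F) * y) * two
  have hfapply : ∀ x : L, ((f x : L) : F) = (x : F) ^ 2 + x := fun x => rfl
  have h1L : (1 : F) ∈ L := (hLmem 1).2 ⟨h1K, τone⟩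
  have hker : Nat.card f.ker = 2 := by
    rw [Nat.card_eq_two_iff]
    refine ⟨0, ⟨⟨1, h1L⟩, ?_⟩, ?_, ?_⟩
    · rw [AddMonoidHom.mem_ker]
      apply Subtype.ext
      rw [hfapply]
      show (1 : F) ^ 2 + 1 = 0
      linear_combination two
    · intro h
      exact one_ne_zero (congrArg (fun u : f.ker => ((u : L) : F)) h).symm
    · refine Set.eq_univ_of_forall fun x => ?_
      have hx : ((x : L) : F) ^ 2 + ((x : L) : F) = 0 := by
        have h := congrArg (fun u : L => (u : F)) ((AddMonoidHom.mem_ker).1 x.2)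
        simpa [hfapply] using h
      have hx' : ((x : L) : F) * (((x : L) : F) + 1) = 0 := by linear_combination hx
      rcases mul_eq_zero.1 hx' with h | h
      · exact Or.inl (Subtype.ext (Subtype.ext h))
      · exact Or.inr (Set.mem_singleton_iff.2 (Subtype.ext (Subtype.ext
          (show ((x : L) : F) = 1 by linear_combination h - two))))
  have hindex : f.range.index = 2 := by
    have h1 := f.range.index_mul_card
    have h2 := f.ker.index_mul_card
    rw [AddSubgroup.index_ker] at h2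
    rw [hker] at h2
    have h3 : Nat.card f.range ≠ 0 := Nat.card_pos.ne'
    rw [← h2, mul_comm (Nat.card f.range) 2] at h1
    exact Nat.eq_of_mul_eq_mul_right (Nat.pos_of_ne_zero h3) h1
  -- every element of `L` is `y ^ 2 + y` with `y ∈ K`
  have hl0 : z ^ 2 + z ∈ L := by
    refine (hLmem _).2 ⟨hadd _ _ (by rw [sq, mul_pow, hzK]) hzK, ?_⟩
    rw [τadd _ _ (by rw [sq, mul_pow, hzK]) hzK, sq, hτmul _ _ hzK hzK, hz]
    linear_combination (z + 1) * two
  have hl0' : (⟨z ^ 2 + z, hl0⟩ : L) ∉ f.range := by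
    rintro ⟨y, hy⟩
    have hy' : (y : F) ^ 2 + y = z ^ 2 + z := congrArg (fun u : L => (u : F)) hy
    obtain ⟨hyK, hyτ⟩ := (hLmem (y : F)).1 y.2
    have h : ((y : F) + z) * ((y : F) + z + 1) = 0 := by
      linear_combination hy' + ((y : F) * z + z ^ 2 + z) * two
    rcases mul_eq_zero.1 h with h | h
    · have e : z = y := by linear_combination h - (y : F) * two
      rw [← e] at hyτ
      rw [hz] at hyτ
      exact one_ne_zero (show (1 : F) = 0 by linear_combination hyτ)
    · have e : z = (y : F) + 1 := by linear_combination h - ((y : F) + 1) * two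
      have e2 : τ z = z := by rw [e, τadd _ _ hyK h1K, hyτ, τone]
      rw [hz] at e2
      exact one_ne_zero (show (1 : F) = 0 by linear_combination e2)
  have hLAS : ∀ l ∈ L, ∃ y : F, y ^ q = y ∧ y ^ 2 + y = l := by
    intro l hl
    by_cases h : (⟨l, hl⟩ : L) ∈ f.range
    · obtain ⟨y, hy⟩ := h
      exact ⟨(y : F), ((hLmem _).1 y.2).1, congrArg (fun u : L => (u : F)) hy⟩
    · have h' : (⟨l, hl⟩ : L) + ⟨z ^ 2 + z, hl0⟩ ∈ f.range :=
        (AddSubgroup.add_mem_iff_of_index_two hindex).2 (iff_of_false h hl0')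
      obtain ⟨y, hy⟩ := h'
      have hy' : (y : F) ^ 2 + y = l + (z ^ 2 + z) := congrArg (fun u : L => (u : F)) hy
      exact ⟨(y : F) + z, hadd _ _ ((hLmem _).1 y.2).1 hzK,
        by linear_combination hy' + ((y : F) * z + z ^ 2 + z) * two⟩
  -- an element of trace one
  obtain ⟨v, hv⟩ := H3.exists_trace_eq H.card h1K
  have hσv : σ v + σ v ^ q = 1 := by rw [← hT, hv, τone]
  have hsK : (v + σ v) ^ q = v + σ v := by
    refine H.mem_fixed_iff.1 ?_
    rw [addq]
    linear_combination hv + hσv + two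
  have hsτ : τ (v + σ v) = v + σ v := by
    rw [hστ _ hsK, σadd, σinv]
    ring
  have hd : (v + v ^ 2) ^ q = v + v ^ 2 := by
    have h := normK v
    rwa [pow_succ, show v ^ q * v = v + v ^ 2 by linear_combination v * hv - v ^ 2 * two] at h
  have hτd : τ (v + v ^ 2) = σ v + σ v ^ 2 := by
    have h := hnorm v
    rwa [pow_succ, pow_succ, show v ^ q * v = v + v ^ 2 by linear_combination v * hv - v ^ 2 * two,
      show σ v ^ q * σ v = σ v + σ v ^ 2 by linear_combination σ v * hσv - σ v ^ 2 * two] at h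
  -- move `d` into `L`
  obtain ⟨y0, hy0K, hy0⟩ : ∃ y : F, y ^ q = y ∧ τ y = y + (v + σ v) := by
    refine ⟨z * (v + σ v), hmul _ _ hzK hsK, ?_⟩
    rw [hτmul _ _ hzK hsK, hz, hsτ]
    ring
  have hy0sq : (y0 ^ 2) ^ q = y0 ^ 2 := by rw [sq, mul_pow, hy0K]
  have hl : v + v ^ 2 + (y0 ^ 2 + y0) ∈ L := by
    refine (hLmem _).2 ⟨hadd _ _ hd (hadd _ _ hy0sq hy0K), ?_⟩
    rw [τadd _ _ hd (hadd _ _ hy0sq hy0K), τadd _ _ hy0sq hy0K, hτd, sq y0,
      hτmul _ _ hy0K hy0K, hy0]
    linear_combination (σ v ^ 2 + y0 * (v + σ v) + v * σ v + σ v) * two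
  obtain ⟨y1, hy1K, hy1⟩ := hLAS _ hl
  have hy : (v + (y0 + y1)) * (v + (y0 + y1) + 1) = 0 := by
    linear_combination hy1 + (v + v ^ 2 + y0 ^ 2 + y0 + v * y0 + v * y1 + y0 * y1) * two
  have hvK : v ^ q = v := by
    rcases mul_eq_zero.1 hy with h | h
    · have e : v = y0 + y1 := by linear_combination h - (y0 + y1) * two
      rw [e]
      exact hadd _ _ hy0K hy1K
    · have e : v = y0 + y1 + 1 := by linear_combination h - (y0 + y1 + 1) * two
      rw [e]
      exact hadd _ _ (hadd _ _ hy0K hy1K) h1K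
  rw [H.mem_fixed_iff.2 hvK] at hv
  exact one_ne_zero hv.symm

/-- The field-theoretic core. -/
theorem fixed_eq_self (H : H50.PSUThree.Hyp F q) (σ τ : F → F)
    (σadd : ∀ x y, σ (x + y) = σ x + σ y) (σinv : ∀ x, σ (σ x) = x)
    (τadd : ∀ c d : F, c ^ q = c → d ^ q = d → τ (c + d) = τ c + τ d)
    (τmem : ∀ c : F, c ^ q = c → τ c ^ q = τ c)
    (τinv : ∀ c : F, c ^ q = c → τ (τ c) = c)
    (hnorm : ∀ x, τ (x ^ (q + 1)) = σ x ^ (q + 1)) :
    ∀ c : F, c ^ q = c → τ c = c := by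
  obtain ⟨a, ha, hσa⟩ : ∃ a : F, a ≠ 0 ∧ σ a = a := by
    by_cases h : σ 1 = 1
    · exact ⟨1, one_ne_zero, h⟩
    · refine ⟨1 + σ 1, fun e => h (by linear_combination e - H.two), ?_⟩
      rw [σadd, σinv, add_comm]
  have hNK : (a ^ (q + 1)) ^ q = a ^ (q + 1) := H3.norm_pow_q H.card a
  have hN0 : a ^ (q + 1) ≠ 0 := pow_ne_zero _ ha
  have hτN : τ (a ^ (q + 1)) = a ^ (q + 1) := by rw [hnorm, hσa]
  set N := a ^ (q + 1) with hN
  have hNc : ∀ c : F, c ^ q = c → (N * c) ^ q = N * c := fun c hc => by rw [mul_pow, hNK, hc]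
  have hdiv : ∀ c : F, c ^ q = c → (c / N) ^ q = c / N := fun c hc => by rw [div_pow, hc, hNK]
  have key := fixed_eq_self_of_one H (fun x => σ (a * x) / a) (fun c => τ (N * c) / N)
    (fun x y => by rw [mul_add, σadd, add_div])
    (fun x => by
      show σ (a * (σ (a * x) / a)) / a = x
      rw [mul_div_cancel₀ _ ha, σinv, mul_div_cancel_left₀ _ ha])
    (by rw [mul_one, hσa, div_self ha])
    (fun c d hc hd => by rw [mul_add, τadd _ _ (hNc c hc) (hNc d hd), add_div])
    (fun c hc => hdiv _ (τmem _ (hNc c hc)))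
    (fun c hc => by
      show τ (N * (τ (N * c) / N)) / N = c
      rw [mul_div_cancel₀ _ hN0, τinv _ (hNc c hc), mul_div_cancel_left₀ _ hN0])
    (fun x => by
      show τ (N * x ^ (q + 1)) / N = (σ (a * x) / a) ^ (q + 1)
      rw [hN, ← mul_pow, hnorm, div_pow])
  intro c hc
  have h := key (c / N) (hdiv c hc)
  change τ (N * (c / N)) / N = c / N at h
  rw [mul_div_cancel₀ _ hN0] at h
  calc τ c = τ c / N * N := (div_mul_cancel₀ _ hN0).symm
    _ = c / N * N := by rw [h]
    _ = c := div_mul_cancel₀ _ hN0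

/-- An automorphism of the model whose square is inner fixes the centre pointwise. -/
theorem aut_fixes_center (H : H50.PSUThree.Hyp F q) (φ : MulAut H.U) (u : H.U)
    (hφ : ∀ x, φ (φ x) = u * x * u⁻¹) : ∀ z ∈ Subgroup.center H.U, φ z = z := by
  classical
  choose fib hfib using H.exists_fibre
  have hzero : ∀ c : F, c ^ q = c → c + c ^ q = (0 : F) ^ (q + 1) := fun c hc => by
    rw [zero_pow (Nat.succ_ne_zero q)]; exact H.mem_fixed_iff.2 hc
  choose A C hAC hx using H.exists_elt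
  -- `A` is the first coordinate
  have hA : ∀ (a c : F) (h : c + c ^ q = a ^ (q + 1)), A (H.elt a c h) = a := fun a c h =>
    ((H.elt_eq_iff).1 (hx (H.elt a c h))).1.symm
  have hC : ∀ (a c : F) (h : c + c ^ q = a ^ (q + 1)), C (H.elt a c h) = c := fun a c h =>
    ((H.elt_eq_iff).1 (hx (H.elt a c h))).2.symm
  have hAmul : ∀ x y : H.U, A (x * y) = A x + A y := by
    intro x y
    obtain ⟨a, c, h, rfl⟩ := H.exists_elt x
    obtain ⟨b, d, hd, rfl⟩ := H.exists_elt y
    obtain ⟨_, e⟩ := H.elt_mul h hd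
    rw [e, hA, hA, hA]
  have hAcen : ∀ x : H.U, x ∈ Subgroup.center H.U ↔ A x = 0 := by
    intro x
    obtain ⟨a, c, h, rfl⟩ := H.exists_elt x
    rw [H.mem_center_iff, H.elt_sq, hA]
  have hφcen : ∀ x : H.U, x ∈ Subgroup.center H.U → φ x ∈ Subgroup.center H.U := fun x hx =>
    Subgroup.mem_center_iff.2 fun g => φ.symm.injective (by
      rw [map_mul, map_mul, φ.symm_apply_apply, Subgroup.mem_center_iff.1 hx])
  have hA1 : A 1 = 0 := (hAcen 1).1 (one_mem _)
  have hAφ : ∀ x y : H.U, A x = A y → A (φ x) = A (φ y) := by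
    intro x y h
    have hinv : A y + A y⁻¹ = 0 := by rw [← hAmul, mul_inv_cancel, hA1]
    have hc : x * y⁻¹ ∈ Subgroup.center H.U := by
      rw [hAcen, hAmul, h, hinv]
    have h2 := (hAcen _).1 (hφcen _ hc)
    rw [map_mul, hAmul] at h2
    have hinv' : A (φ y) + A (φ y⁻¹) = 0 := by rw [← hAmul, ← map_mul, mul_inv_cancel, map_one, hA1]
    linear_combination h2 - hinv'
  let σ : F → F := fun a => A (φ (H.elt a (fib a) (hfib a)))
  let τ : F → F := fun c => if h : c ^ q = c then C (φ (H.elt 0 c (hzero c h))) else 0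
  have hσ : ∀ x : H.U, A (φ x) = σ (A x) := fun x => hAφ _ _ (hA _ _ _).symm
  have hτ : ∀ (c : F) (hc : c ^ q = c), τ c ^ q = τ c ∧
      ∀ h, φ (H.elt 0 c (hzero c hc)) = H.elt 0 (τ c) h := by
    intro c hc
    have h0 := (hAcen _).1 (hφcen _ ((H.mem_center_iff _).2 ((H.elt_sq (hzero c hc)).2 rfl)))
    obtain ⟨a, d, h, e⟩ := H.exists_elt (φ (H.elt 0 c (hzero c hc)))
    rw [e, hA] at h0
    subst h0
    have hτd : τ c = d := by
      show (if h : c ^ q = c then C (φ (H.elt 0 c (hzero c h))) else 0) = d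
      rw [dif_pos hc, e, hC]
    refine ⟨?_, fun h' => ?_⟩
    · rw [hτd]
      exact H.mem_fixed_iff.1 (by rw [h, zero_pow (Nat.succ_ne_zero q)])
    · rw [e, H.elt_eq_iff]
      exact ⟨rfl, hτd.symm⟩
  have hAconj : ∀ x : H.U, A (u * x * u⁻¹) = A x := by
    intro x
    have h1 : A u + A u⁻¹ = 0 := by rw [← hAmul, mul_inv_cancel, hA1]
    rw [hAmul, hAmul]
    linear_combination h1
  have σadd : ∀ x y, σ (x + y) = σ x + σ y := by
    intro x y
    have h := hσ (H.elt x (fib x) (hfib x) * H.elt y (fib y) (hfib y))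
    rw [map_mul, hAmul, hσ, hσ, hAmul, hA, hA] at h
    exact h.symm
  have σinv : ∀ x, σ (σ x) = x := by
    intro x
    have h := hσ (φ (H.elt x (fib x) (hfib x)))
    rw [hφ, hAconj, hA, hσ, hA] at h
    exact h.symm
  have τmem : ∀ c : F, c ^ q = c → τ c ^ q = τ c := fun c hc => (hτ c hc).1
  have hprod : ∀ (c d : F) (hc : c ^ q = c) (hd : d ^ q = d),
      H.elt 0 c (hzero c hc) * H.elt 0 d (hzero d hd) =
        H.elt 0 (c + d) (hzero (c + d) (by rw [H3.add_pow_q H.card, hc, hd])) := by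
    intro c d hc hd
    obtain ⟨_, e⟩ := H.elt_mul (hzero c hc) (hzero d hd)
    rw [e, H.elt_eq_iff, H.zero_q]
    exact ⟨add_zero 0, by ring⟩
  have τadd : ∀ c d : F, c ^ q = c → d ^ q = d → τ (c + d) = τ c + τ d := by
    intro c d hc hd
    have hcd : (c + d) ^ q = c + d := by rw [H3.add_pow_q H.card, hc, hd]
    have h := congrArg φ (hprod c d hc hd)
    rw [map_mul, (hτ c hc).2 (hzero _ (τmem c hc)), (hτ d hd).2 (hzero _ (τmem d hd)),
      (hτ _ hcd).2 (hzero _ (τmem _ hcd)), hprod _ _ (τmem c hc) (τmem d hd), H.elt_eq_iff] at h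
    exact h.2.symm
  have τinv : ∀ c : F, c ^ q = c → τ (τ c) = c := by
    intro c hc
    have h := hφ (H.elt 0 c (hzero c hc))
    have hz : H.elt 0 c (hzero c hc) ∈ Subgroup.center H.U :=
      (H.mem_center_iff _).2 ((H.elt_sq _).2 rfl)
    rw [(hτ c hc).2 (hzero _ (τmem c hc)), (hτ _ (τmem c hc)).2 (hzero _ (τmem _ (τmem c hc))),
      Subgroup.mem_center_iff.1 hz u, mul_inv_cancel_right, H.elt_eq_iff] at h
    exact h.2
  have hnorm : ∀ x, τ (x ^ (q + 1)) = σ x ^ (q + 1) := by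
    intro x
    have hK : (x ^ (q + 1)) ^ q = x ^ (q + 1) := H3.norm_pow_q H.card x
    have sq' : ∀ (a c : F) (h : c + c ^ q = a ^ (q + 1)) (h0),
        H.elt a c h * H.elt a c h = H.elt 0 (a ^ (q + 1)) h0 := by
      intro a c h h0
      obtain ⟨_, e⟩ := H.elt_mul h h
      rw [e, H.elt_eq_iff]
      exact ⟨H.add_self a, by rw [H.add_self, zero_add, ← pow_succ]⟩
    obtain ⟨a, c, h, e⟩ := H.exists_elt (φ (H.elt x (fib x) (hfib x)))
    have ha : σ x = a := by show A (φ _) = a; rw [e, hA]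
    have h1 := congrArg φ (sq' x (fib x) (hfib x) (hzero _ hK))
    rw [map_mul, e, sq' a c h (hzero _ (H3.norm_pow_q H.card a)),
      (hτ _ hK).2 (hzero _ (τmem _ hK)), H.elt_eq_iff] at h1
    rw [ha, ← h1.2]
  have key := fixed_eq_self H σ τ σadd σinv τadd τmem τinv hnorm
  intro z hz
  obtain ⟨a, c, h, rfl⟩ := H.exists_elt z
  have ha : a = 0 := by rw [← hA a c h]; exact (hAcen _).1 hz
  subst ha
  have hc : c ^ q = c := H.mem_fixed_iff.1 (by rw [h, zero_pow (Nat.succ_ne_zero q)])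
  rw [(hτ c hc).2 (hzero _ (τmem c hc)), H.elt_eq_iff]
  exact ⟨rfl, key c hc⟩

/-- The model is isomorphic to every Sylow 2-subgroup of `SU₃`. -/
theorem nonempty_equiv_sylow_SU (H : H50.PSUThree.Hyp F q) {n : ℕ} (hq : q = 2 ^ n)
    (P : Sylow 2 (Cfsg.SU 3 F q)) :
    Nonempty (H.U ≃* (P : Subgroup (Cfsg.SU 3 F q))) := by
  haveI : Fact (Nat.Prime 2) := ⟨Nat.prime_two⟩
  have hsurj : Function.Surjective (QuotientGroup.mk' (Subgroup.center (Cfsg.SU 3 F q))) :=
    QuotientGroup.mk'_surjective _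
  obtain ⟨e⟩ := H.nonempty_equiv hq (P.mapSurjective hsurj)
  have hinj : Function.Injective
      ((QuotientGroup.mk' (Subgroup.center (Cfsg.SU 3 F q))).subgroupMap (P : Subgroup (Cfsg.SU 3 F q))) := by
    rw [← MonoidHom.ker_eq_bot_iff, eq_bot_iff]
    intro x hx
    have hx' : (x : Cfsg.SU 3 F q) ∈ Subgroup.center (Cfsg.SU 3 F q) :=
      (QuotientGroup.eq_one_iff _).1 (congrArg Subtype.val ((MonoidHom.mem_ker).1 hx))
    have h1 : orderOf (x : Cfsg.SU 3 F q) ∣ 3 := (Subgroup.orderOf_dvd_natCard _ hx').trans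
      (by rw [H3.card_center_SU H.card (by norm_num)]; exact Nat.gcd_dvd_left _ _)
    obtain ⟨k, hk⟩ := P.2.exists_card_eq
    have h2 : orderOf x ∣ 2 ^ k := hk ▸ orderOf_dvd_natCard x
    rw [Subgroup.orderOf_coe] at h1
    exact orderOf_eq_one_iff.1 (Nat.eq_one_of_dvd_coprimes
      (Nat.Coprime.pow_right _ (by decide : Nat.Coprime 3 2)) h1 h2)
  exact ⟨e.trans (MulEquiv.ofBijective _ ⟨hinj, MonoidHom.subgroupMap_surjective _ _⟩).symm⟩

/-- An index two overgroup of the Sylow 2-subgroup centralizes its centre. -/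
theorem center_le_center_of_index_two {R : Type*} [Group R] (H : H50.PSUThree.Hyp F q)
    (S : Subgroup R) (e : H.U ≃* S) (hidx : S.index = 2) :
    (Subgroup.center S).map S.subtype ≤ Subgroup.center R := by
  haveI : S.Normal := Subgroup.normal_of_index_eq_two hidx
  rintro _ ⟨z, hz, rfl⟩
  refine Subgroup.mem_center_iff.2 fun g => ?_
  by_cases hg : g ∈ S
  · exact congrArg Subtype.val (Subgroup.mem_center_iff.1 hz ⟨g, hg⟩)
  · let φ : MulAut H.U := (e.trans (MulAut.conjNormal g : MulAut S)).trans e.symm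
    have hg2 : g * g ∈ S := Subgroup.mul_self_mem_of_index_two hidx g
    have hφ : ∀ x, φ (φ x) = e.symm ⟨g * g, hg2⟩ * x * (e.symm ⟨g * g, hg2⟩)⁻¹ := by
      intro x
      apply e.injective
      simp only [φ, MulEquiv.trans_apply, MulEquiv.apply_symm_apply, map_mul, map_inv]
      apply Subtype.ext
      simp only [MulAut.conjNormal_apply, Subgroup.coe_mul, Subgroup.coe_inv]
      group
    have hz' : e.symm z ∈ Subgroup.center H.U := Subgroup.mem_center_iff.2 fun w => e.injective (by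
      rw [map_mul, map_mul, e.apply_symm_apply, Subgroup.mem_center_iff.1 hz])
    have h := congrArg e (aut_fixes_center H φ _ hφ _ hz')
    simp only [φ, MulEquiv.trans_apply, MulEquiv.apply_symm_apply] at h
    have h' : g * (z : R) * g⁻¹ = (z : R) := congrArg Subtype.val h
    exact mul_inv_eq_iff_eq_mul.1 h'

end Cfsg.Agent.H77.UnitaryCenter
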